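import Groth.Prelude.Def_Isoc
import Mathlib.RingTheory.DiscreteValuationRing.Basic
import Mathlib.RingTheory.Localization.FractionRing
import Mathlib.RingTheory.WittVector.Complete
import Mathlib.RingTheory.Filtration

/-!
Basic facts about lattices in isocrystals: `pPow`, `latImg`, comparability, orders.
-/

set_option autoImplicit false
set_option linter.unusedSectionVars false
set_option linter.style.haveILetI false

noncomputable section

open scoped Pointwise Isocrystal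

universe u v

namespace Groth.Misc12.Isoc

variable {p : ℕ} [Fact p.Prime] {k : Type u} [Field k]

/-- `τ` is the extension to `L` of an automorphism of `W`. -/
def Tw (τ : K(p, k) →+* K(p, k)) : Prop :=
  ∃ σ : WittVector p k ≃+* WittVector p k,
    ∀ w, τ (algebraMap (WittVector p k) K(p, k) w) = algebraMap (WittVector p k) K(p, k) (σ w)

theorem tw_one : Tw (1 : K(p, k) →+* K(p, k)) := ⟨RingEquiv.refl _, fun _ => rfl⟩

theorem Tw.mul {τ τ' : K(p, k) →+* K(p, k)} (h : Tw τ) (h' : Tw τ') : Tw (τ * τ') := by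
  obtain ⟨σ, hσ⟩ := h
  obtain ⟨σ', hσ'⟩ := h'
  exact ⟨σ'.trans σ, fun w => by rw [RingHom.coe_mul, Function.comp_apply, hσ', hσ]; rfl⟩

theorem Tw.pow {τ : K(p, k) →+* K(p, k)} (h : Tw τ) (n : ℕ) : Tw (τ ^ n) := by
  induction n with
  | zero => rw [pow_zero]; exact tw_one
  | succ n ih => rw [pow_succ]; exact ih.mul h

variable [CharP k p]

theorem tw_frob [PerfectRing k p] (a : ℤ) : Tw (Isoc.frob p k a) :=
  ⟨WittVector.frobeniusEquiv p k ^ a, Isoc.frob_algebraMap p k a⟩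

theorem p_ne : (p : K(p, k)) ≠ 0 := by
  rw [← map_natCast (algebraMap (WittVector p k) K(p, k))]
  exact fun h => WittVector.p_nonzero p k (IsFractionRing.injective (WittVector p k) K(p, k) (by rw [h, map_zero]))

theorem pz_ne (r : ℤ) : (p : K(p, k)) ^ r ≠ 0 := zpow_ne_zero r p_ne

theorem algebraMap_p_pow (n : ℕ) :
    algebraMap (WittVector p k) K(p, k) ((p : WittVector p k) ^ n) = (p : K(p, k)) ^ (n : ℤ) := by
  rw [map_pow, map_natCast, zpow_natCast]

theorem Tw.map_pz {τ : K(p, k) →+* K(p, k)} (_h : Tw τ) (r : ℤ) :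
    τ ((p : K(p, k)) ^ r) = (p : K(p, k)) ^ r := by
  rw [map_zpow₀, map_natCast]

theorem Tw.bijective {τ : K(p, k) →+* K(p, k)} (h : Tw τ) : Function.Bijective τ := by
  obtain ⟨σ, hσ⟩ := h
  refine ⟨τ.injective, fun x => ?_⟩
  obtain ⟨a, b, hb, rfl⟩ := IsFractionRing.div_surjective (A := WittVector p k) x
  exact ⟨algebraMap _ _ (σ.symm a) / algebraMap _ _ (σ.symm b), by rw [map_div₀, hσ, hσ]; simp⟩

theorem Tw.surjSubring {τ : K(p, k) →+* K(p, k)} (h : Tw τ) : RingHomSurjective τ :=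
  ⟨h.bijective.2⟩

section module

variable {N : Type v} [AddCommGroup N] [Module (WittVector p k) N] [Module K(p, k) N]
  [IsScalarTower (WittVector p k) K(p, k) N]
variable {τ : K(p, k) →+* K(p, k)}

theorem smulW_eq (w : WittVector p k) (x : N) : w • x = algebraMap (WittVector p k) K(p, k) w • x :=
  (algebraMap_smul K(p, k) w x).symm

theorem mem_pPow {r : ℤ} {M : Submodule (WittVector p k) N} {x : N} :
    x ∈ Isoc.pPow r M ↔ (p : K(p, k)) ^ (-r) • x ∈ M := by
  rw [Isoc.pPow, ← SetLike.mem_coe, Submodule.coe_pointwise_smul,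
    Set.mem_smul_set_iff_inv_smul_mem₀ (pz_ne r), zpow_neg]
  rfl

theorem pz_smul_mem_pPow {r : ℤ} {M : Submodule (WittVector p k) N} {x : N} (hx : x ∈ M) :
    (p : K(p, k)) ^ r • x ∈ Isoc.pPow r M := by
  rwa [mem_pPow, smul_smul, ← zpow_add₀ p_ne, neg_add_cancel, zpow_zero, one_smul]

@[simp] theorem pPow_zero (M : Submodule (WittVector p k) N) : Isoc.pPow 0 M = M := by
  ext x; rw [mem_pPow]; simp

theorem pPow_pPow (r s : ℤ) (M : Submodule (WittVector p k) N) :
    Isoc.pPow r (Isoc.pPow s M) = Isoc.pPow (r + s) M := by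
  ext x
  rw [mem_pPow, mem_pPow, mem_pPow, smul_smul, ← zpow_add₀ p_ne, ← neg_add, add_comm s r]

theorem pPow_mono (r : ℤ) {M M' : Submodule (WittVector p k) N} (h : M ≤ M') :
    Isoc.pPow r M ≤ Isoc.pPow r M' := fun _ hx => by
  rw [mem_pPow] at hx ⊢; exact h hx

theorem pPow_le_pPow_iff (r : ℤ) {M M' : Submodule (WittVector p k) N} :
    Isoc.pPow r M ≤ Isoc.pPow r M' ↔ M ≤ M' :=
  ⟨fun h => by simpa [pPow_pPow] using pPow_mono (-r) h, pPow_mono r⟩

theorem pPow_anti {r r' : ℤ} (h : r ≤ r') (M : Submodule (WittVector p k) N) :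
    Isoc.pPow r' M ≤ Isoc.pPow r M := fun x hx => by
  rw [mem_pPow] at hx ⊢
  have := M.smul_mem ((p : WittVector p k) ^ (r' - r).toNat) hx
  rw [smulW_eq, algebraMap_p_pow, smul_smul, ← zpow_add₀ p_ne] at this
  convert this using 3
  omega

theorem pPow_sup (r : ℤ) (M M' : Submodule (WittVector p k) N) :
    Isoc.pPow r (M ⊔ M') = Isoc.pPow r M ⊔ Isoc.pPow r M' :=
  Submodule.map_sup _ _ _

theorem pPow_isLattice {M : Submodule (WittVector p k) N} (h : M.IsLattice K(p, k)) (r : ℤ) :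
    (Isoc.pPow r M).IsLattice K(p, k) := by
  have := h
  have e : Isoc.pPow r M = (Units.mk0 _ (pz_ne r) : K(p, k)ˣ) • M := rfl
  rw [e]
  infer_instance

theorem exists_smul_mem {M : Submodule (WittVector p k) N} (h : M.IsLattice K(p, k)) [PerfectRing k p] (x : N) :
    ∃ c : ℕ, (p : K(p, k)) ^ (c : ℤ) • x ∈ M := by
  have hx : x ∈ Submodule.span K(p, k) (M : Set N) := by rw [h.span_eq_top]; trivial
  induction hx using Submodule.span_induction with
  | mem y hy => exact ⟨0, by simpa using hy⟩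
  | zero => exact ⟨0, by simp⟩
  | add y z _ _ hy hz =>
    obtain ⟨a, ha⟩ := hy
    obtain ⟨b, hb⟩ := hz
    refine ⟨a + b, ?_⟩
    rw [smul_add]
    refine add_mem ?_ ?_
    · have := M.smul_mem ((p : WittVector p k) ^ b) ha
      rw [smulW_eq, algebraMap_p_pow, smul_smul, ← zpow_add₀ p_ne] at this
      convert this using 3; omega
    · have := M.smul_mem ((p : WittVector p k) ^ a) hb
      rw [smulW_eq, algebraMap_p_pow, smul_smul, ← zpow_add₀ p_ne] at this
      convert this using 3; omega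
  | smul a y _ hy =>
    obtain ⟨c, hc⟩ := hy
    obtain ⟨num, den, hden, rfl⟩ := IsFractionRing.div_surjective (A := WittVector p k) a
    obtain ⟨n, w, hw⟩ := IsDiscreteValuationRing.eq_unit_mul_pow_irreducible
      (nonZeroDivisors.ne_zero hden) (WittVector.irreducible p)
    refine ⟨n + c, ?_⟩
    have := M.smul_mem ((↑w⁻¹ : WittVector p k) * num) hc
    convert this using 1
    rw [smulW_eq, hw, smul_smul, smul_smul, map_mul, map_mul, algebraMap_p_pow]
    congr 1
    rw [Nat.cast_add, zpow_add₀ p_ne, map_units_inv (algebraMap (WittVector p k) K(p, k)) w]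
    field_simp [pz_ne (p := p) (k := k) (n : ℤ), (w.isUnit.map (algebraMap (WittVector p k) K(p, k))).ne_zero]
    rw [mul_assoc, mul_div_cancel_left₀ _ (pz_ne _)]

theorem exists_pPow_le {M M' : Submodule (WittVector p k) N} (hM : M.FG) (hM' : M'.IsLattice K(p, k))
    [PerfectRing k p] : ∃ c : ℕ, Isoc.pPow (c : ℤ) M ≤ M' := by
  obtain ⟨s, rfl⟩ := hM
  classical
  choose f hf using fun x : N => exists_smul_mem hM' x
  refine ⟨s.sup f, fun x hx => ?_⟩
  rw [mem_pPow] at hx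
  have key : ∀ y ∈ Submodule.span (WittVector p k) (s : Set N), (p : K(p, k)) ^ ((s.sup f : ℕ) : ℤ) • y ∈ M' := by
    intro y hy
    induction hy using Submodule.span_induction with
    | mem y hy =>
      have := M'.smul_mem ((p : WittVector p k) ^ (s.sup f - f y)) (hf y)
      rw [smulW_eq, algebraMap_p_pow, smul_smul, ← zpow_add₀ p_ne] at this
      convert this using 3
      have := Finset.le_sup (f := f) hy
      omega
    | zero => simp
    | add y z _ _ hy hz => rw [smul_add]; exact add_mem hy hz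
    | smul a y _ hy => rw [smul_comm]; exact M'.smul_mem a hy
  have := key _ hx
  rwa [smul_smul, ← zpow_add₀ p_ne, add_neg_cancel, zpow_zero, one_smul] at this

theorem exists_smul_notMem {M : Submodule (WittVector p k) N} (hM : M.IsLattice K(p, k)) [PerfectRing k p]
    {x : N} (hx : x ∈ M) (h : ∀ n : ℕ, x ∈ Isoc.pPow (n : ℤ) M) : x = 0 := by
  haveI := hM
  have hx' : (⟨x, hx⟩ : M) ∈ ⨅ n : ℕ, (IsLocalRing.maximalIdeal (WittVector p k)) ^ n • (⊤ : Submodule (WittVector p k) M) := by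
    refine Submodule.mem_iInf _ |>.2 fun n => ?_
    have hn := h n
    rw [mem_pPow] at hn
    have e : (⟨x, hx⟩ : M) = ((p : WittVector p k) ^ n) • (⟨_, hn⟩ : M) := by
      apply Subtype.ext
      change x = ((p : WittVector p k) ^ n) • ((p : K(p, k)) ^ (-(n : ℤ)) • x)
      rw [smulW_eq, algebraMap_p_pow, smul_smul, ← zpow_add₀ p_ne, add_neg_cancel, zpow_zero, one_smul]
    rw [e]
    exact Submodule.smul_mem_smul (Ideal.pow_mem_pow ((IsLocalRing.mem_maximalIdeal _).2 (WittVector.irreducible p).not_isUnit) n) trivial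
  rw [Ideal.iInf_pow_smul_eq_bot_of_isLocalRing _ (IsLocalRing.maximalIdeal.isMaximal _).ne_top] at hx'
  simpa using hx'

theorem exists_not_le_pPow {M M' : Submodule (WittVector p k) N} (hM : M.IsLattice K(p, k)) (hM' : M' ≠ ⊥)
    [PerfectRing k p] : ∃ r : ℤ, ¬ M' ≤ Isoc.pPow r M := by
  by_contra h
  push Not at h
  obtain ⟨x, hx, hx0⟩ := Submodule.exists_mem_ne_zero_of_ne_bot hM'
  exact hx0 (exists_smul_notMem hM (by simpa using h 0 hx) fun n => h n hx)

theorem isLattice_ne_bot [Nontrivial N] {M : Submodule (WittVector p k) N} (h : M.IsLattice K(p, k)) : M ≠ ⊥ := by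
  rintro rfl
  have := h.span_eq_top
  simp at this

/-! ### latImg -/

theorem iterate_smulW (hτ : Tw τ) (F : N →ₛₗ[τ] N) (s : ℕ) :
    ∃ σ : WittVector p k ≃+* WittVector p k, ∀ (w : WittVector p k) (x : N),
      (⇑F)^[s] (w • x) = σ w • (⇑F)^[s] x := by
  obtain ⟨σ, hσ⟩ := hτ.pow s
  refine ⟨σ, fun w x => ?_⟩
  rw [smulW_eq, smulW_eq, ← hσ]
  exact (Isoc.iter F s).map_smulₛₗ _ x

theorem iterate_smul (F : N →ₛₗ[τ] N) (s : ℕ) (c : K(p, k)) (x : N) :
    (⇑F)^[s] (c • x) = (τ ^ s) c • (⇑F)^[s] x :=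
  (Isoc.iter F s).map_smulₛₗ _ x

theorem iterate_pz_smul (hτ : Tw τ) (F : N →ₛₗ[τ] N) (s : ℕ) (r : ℤ) (x : N) :
    (⇑F)^[s] ((p : K(p, k)) ^ r • x) = (p : K(p, k)) ^ r • (⇑F)^[s] x := by
  rw [iterate_smul, (hτ.pow s).map_pz]

theorem mem_latImg (hτ : Tw τ) {F : N →ₛₗ[τ] N} {s : ℕ} {M : Submodule (WittVector p k) N} {y : N} :
    y ∈ Isoc.latImg F s M ↔ ∃ x ∈ M, (⇑F)^[s] x = y := by
  refine ⟨fun hy => ?_, fun ⟨x, hx, e⟩ => e ▸ Submodule.subset_span ⟨x, hx, rfl⟩⟩
  obtain ⟨σ, hσ⟩ := iterate_smulW hτ F s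
  induction hy using Submodule.span_induction with
  | mem y hy => exact hy
  | zero => exact ⟨0, M.zero_mem, map_zero (Isoc.iter F s)⟩
  | add y z _ _ hy hz =>
    obtain ⟨a, ha, rfl⟩ := hy
    obtain ⟨b, hb, rfl⟩ := hz
    exact ⟨a + b, M.add_mem ha hb, map_add (Isoc.iter F s) a b⟩
  | smul w y _ hy =>
    obtain ⟨a, ha, rfl⟩ := hy
    exact ⟨σ.symm w • a, M.smul_mem _ ha, by rw [hσ, RingEquiv.apply_symm_apply]⟩

theorem latImg_le_iff {F : N →ₛₗ[τ] N} {s : ℕ} {M M' : Submodule (WittVector p k) N} :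
    Isoc.latImg F s M ≤ M' ↔ ∀ x ∈ M, (⇑F)^[s] x ∈ M' := by
  rw [Isoc.latImg, Submodule.span_le]; exact Set.image_subset_iff

theorem latImg_mono (F : N →ₛₗ[τ] N) (s : ℕ) {M M' : Submodule (WittVector p k) N} (h : M ≤ M') :
    Isoc.latImg F s M ≤ Isoc.latImg F s M' :=
  Submodule.span_mono (Set.image_mono h)

@[simp] theorem latImg_zero (F : N →ₛₗ[τ] N) (M : Submodule (WittVector p k) N) : Isoc.latImg F 0 M = M := by
  simp [Isoc.latImg]

theorem latImg_add (hτ : Tw τ) (F : N →ₛₗ[τ] N) (s t : ℕ) (M : Submodule (WittVector p k) N) :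
    Isoc.latImg F (s + t) M = Isoc.latImg F s (Isoc.latImg F t M) := by
  ext y
  simp only [mem_latImg hτ, Function.iterate_add_apply]
  exact ⟨fun ⟨x, hx, e⟩ => ⟨_, ⟨x, hx, rfl⟩, e⟩, fun ⟨_, ⟨x, hx, e'⟩, e⟩ => ⟨x, hx, e' ▸ e⟩⟩

theorem latImg_pPow (hτ : Tw τ) (F : N →ₛₗ[τ] N) (s : ℕ) (r : ℤ) (M : Submodule (WittVector p k) N) :
    Isoc.latImg F s (Isoc.pPow r M) = Isoc.pPow r (Isoc.latImg F s M) := by
  ext y
  simp only [mem_latImg hτ, mem_pPow]
  constructor
  · rintro ⟨x, hx, rfl⟩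
    exact ⟨_, hx, iterate_pz_smul hτ F s _ x⟩
  · rintro ⟨x, hx, e⟩
    refine ⟨(p : K(p, k)) ^ r • x, ?_, ?_⟩
    · rwa [smul_smul, ← zpow_add₀ p_ne, neg_add_cancel, zpow_zero, one_smul]
    · rw [iterate_pz_smul hτ, e, smul_smul, ← zpow_add₀ p_ne, add_neg_cancel, zpow_zero, one_smul]

theorem latImg_sup (F : N →ₛₗ[τ] N) (s : ℕ) (M M' : Submodule (WittVector p k) N) :
    Isoc.latImg F s (M ⊔ M') = Isoc.latImg F s M ⊔ Isoc.latImg F s M' := by
  refine le_antisymm (latImg_le_iff.2 fun x hx => ?_)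
    (sup_le (latImg_mono F s le_sup_left) (latImg_mono F s le_sup_right))
  obtain ⟨a, ha, b, hb, rfl⟩ := Submodule.mem_sup.1 hx
  rw [show (⇑F)^[s] (a + b) = (⇑F)^[s] a + (⇑F)^[s] b from map_add (Isoc.iter F s) a b]
  exact Submodule.mem_sup.2 ⟨_, Submodule.subset_span ⟨a, ha, rfl⟩, _, Submodule.subset_span ⟨b, hb, rfl⟩, rfl⟩

theorem latImg_fg (hτ : Tw τ) (F : N →ₛₗ[τ] N) (s : ℕ) {M : Submodule (WittVector p k) N} (h : M.FG) :
    (Isoc.latImg F s M).FG := by
  obtain ⟨S, rfl⟩ := h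
  classical
  refine ⟨S.image (⇑F)^[s], le_antisymm ?_ ?_⟩
  · rw [Finset.coe_image]
    exact Submodule.span_mono (Set.image_mono Submodule.subset_span)
  · refine latImg_le_iff.2 fun x hx => ?_
    obtain ⟨σ, hσ⟩ := iterate_smulW hτ F s
    induction hx using Submodule.span_induction with
    | mem y hy => exact Submodule.subset_span (by rw [Finset.coe_image]; exact ⟨y, hy, rfl⟩)
    | zero => rw [show (⇑F)^[s] 0 = 0 from map_zero (Isoc.iter F s)]; exact zero_mem _
    | add y z _ _ hy hz => rw [show (⇑F)^[s] (y + z) = _ from map_add (Isoc.iter F s) y z]; exact add_mem hy hz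
    | smul w y _ hy => rw [hσ]; exact Submodule.smul_mem _ _ hy

theorem latImg_isLattice (hτ : Tw τ) {F : N →ₛₗ[τ] N} (hF : Function.Surjective F) (s : ℕ)
    {M : Submodule (WittVector p k) N} (h : M.IsLattice K(p, k)) :
    (Isoc.latImg F s M).IsLattice K(p, k) := by
  refine ⟨latImg_fg hτ F s h.fg, eq_top_iff.2 ?_⟩
  intro y hy
  clear hy
  obtain ⟨x, rfl⟩ := hF.iterate s y
  have hx : x ∈ Submodule.span K(p, k) (M : Set N) := by rw [h.span_eq_top]; trivial
  induction hx using Submodule.span_induction with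
  | mem z hz => exact Submodule.subset_span (Submodule.subset_span ⟨z, hz, rfl⟩)
  | zero => rw [show (⇑F)^[s] 0 = 0 from map_zero (Isoc.iter F s)]; exact zero_mem _
  | add y z _ _ hy hz => rw [show (⇑F)^[s] (y + z) = _ from map_add (Isoc.iter F s) y z]; exact add_mem hy hz
  | smul w y _ hy => rw [iterate_smul]; exact Submodule.smul_mem _ _ hy

theorem exists_isLattice [Module.Finite K(p, k) N] : ∃ M : Submodule (WittVector p k) N, M.IsLattice K(p, k) := by
  classical
  obtain ⟨S, hS⟩ := (Module.Finite.fg_top : (⊤ : Submodule K(p, k) N).FG)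
  refine ⟨Submodule.span _ (S : Set N), ⟨⟨S, rfl⟩, ?_⟩⟩
  rw [eq_top_iff, ← hS]
  exact Submodule.span_mono Submodule.subset_span

/-- Relative position: the set of `r` with `X ≤ p^r M` has a maximum. -/
theorem exists_isOrd [PerfectRing k p] [Nontrivial N] (hτ : Tw τ) {F : N →ₛₗ[τ] N} (hF : Function.Surjective F)
    {M : Submodule (WittVector p k) N} (hM : M.IsLattice K(p, k)) (s : ℕ) :
    ∃ r : ℤ, Isoc.IsOrd M F s r := by
  have hX := latImg_isLattice hτ hF s hM
  obtain ⟨c, hc⟩ := exists_pPow_le hX.fg hM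
  obtain ⟨b, hb⟩ := exists_not_le_pPow hM (isLattice_ne_bot hX)
  have hbd : ∀ z, Isoc.latImg F s M ≤ Isoc.pPow z M → z ≤ b := by
    intro z hz
    by_contra hlt
    exact hb (hz.trans (pPow_anti (by omega) M))
  have hex : Isoc.latImg F s M ≤ Isoc.pPow (-(c : ℤ)) M := by
    rw [← pPow_le_pPow_iff (c : ℤ), pPow_pPow, add_neg_cancel, pPow_zero]; exact hc
  classical
  obtain ⟨r, hr, hmax⟩ := Int.exists_greatest_of_bdd (P := fun z => Isoc.latImg F s M ≤ Isoc.pPow z M) ⟨b, hbd⟩ ⟨_, hex⟩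
  exact ⟨r, hr, fun h => by have := hmax _ h; omega⟩

theorem le_of_isOrd {M : Submodule (WittVector p k) N} {F : N →ₛₗ[τ] N} {s : ℕ} {r r' : ℤ}
    (h : Isoc.IsOrd M F s r) (h' : Isoc.latImg F s M ≤ Isoc.pPow r' M) : r' ≤ r := by
  by_contra hlt
  exact h.2 (h'.trans (pPow_anti (by omega) M))

theorem isOrd_unique {M : Submodule (WittVector p k) N} {F : N →ₛₗ[τ] N} {s : ℕ} {r r' : ℤ}
    (h : Isoc.IsOrd M F s r) (h' : Isoc.IsOrd M F s r') : r = r' :=
  le_antisymm (le_of_isOrd h' h.1) (le_of_isOrd h h'.1)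

theorem isOrd_of_eq [PerfectRing k p] [Nontrivial N] {M : Submodule (WittVector p k) N} (hM : M.IsLattice K(p, k))
    {F : N →ₛₗ[τ] N} {s : ℕ} {r : ℤ} (h : Isoc.latImg F s M = Isoc.pPow r M) : Isoc.IsOrd M F s r := by
  refine ⟨h.le, fun hle => ?_⟩
  rw [h] at hle
  have h1 : M ≤ Isoc.pPow 1 M := by simpa [pPow_pPow, add_comm r 1] using pPow_mono (-r) hle
  have hn : ∀ n : ℕ, M ≤ Isoc.pPow (n : ℤ) M := by
    intro n
    induction n with
    | zero => simp
    | succ n ih =>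
      refine h1.trans ((pPow_mono 1 ih).trans ?_)
      rw [pPow_pPow, Nat.cast_succ, add_comm]
  obtain ⟨x, hx, hx0⟩ := Submodule.exists_mem_ne_zero_of_ne_bot (isLattice_ne_bot hM)
  exact hx0 (exists_smul_notMem hM hx fun n => hn n hx)

end module

end Groth.Misc12.Isoc
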