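import Groth.Agent.Misc12.Isoc.Sub

/-!
The standard isocrystals.
-/

set_option autoImplicit false
set_option linter.unusedSectionVars false

noncomputable section

open scoped Pointwise Isocrystal

universe u

namespace Groth.Misc12.Isoc

variable {p : ℕ} [Fact p.Prime] {k : Type u} [Field k] [CharP k p]
variable {τ : K(p, k) →+* K(p, k)}

theorem stdIsoc_bijective (hτ : Tw τ) (d : ℤ) (h : ℕ) : Function.Bijective (Isoc.stdIsoc τ d h) := by
  have hne : ∀ i : Fin h, (if i.val = 0 then (p : K(p, k)) ^ d else 1) ≠ 0 := fun i => by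
    split_ifs
    · exact pz_ne d
    · exact one_ne_zero
  constructor
  · intro x y hxy
    funext i
    have := congrFun hxy (finRotate h i)
    rw [Isoc.stdIsoc_apply, Isoc.stdIsoc_apply] at this
    have h2 := hτ.bijective.1 (mul_left_cancel₀ (hne _) this)
    rwa [Equiv.symm_apply_apply] at h2
  · intro y
    choose x hx using fun i => hτ.bijective.2
      (y (finRotate h i) / (if (finRotate h i).val = 0 then (p : K(p, k)) ^ d else 1))
    refine ⟨x, funext fun i => ?_⟩
    rw [Isoc.stdIsoc_apply, hx, Equiv.apply_symm_apply, mul_div_cancel₀ _ (hne i)]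

theorem finRotate_val {h : ℕ} (j : Fin h) : (finRotate h j).val = (j.val + 1) % h := by
  cases h with
  | zero => exact j.elim0
  | succ n => rw [finRotate_succ_apply, Fin.val_add, Fin.val_one', Nat.add_mod_mod]

theorem stdIsoc_single (hτ : Tw τ) (d : ℤ) {h : ℕ} (j : Fin h) :
    Isoc.stdIsoc τ d h (Pi.single j 1) =
      (if j.val + 1 = h then (p : K(p, k)) ^ d else 1) • Pi.single (finRotate h j) 1 := by
  funext i
  rw [Isoc.stdIsoc_apply, Pi.smul_apply, smul_eq_mul]
  by_cases hi : i = finRotate h j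
  · subst hi
    rw [Equiv.symm_apply_apply, Pi.single_eq_same, Pi.single_eq_same, map_one, mul_one, mul_one]
    have := j.isLt
    refine if_congr ?_ rfl rfl
    rw [finRotate_val]
    constructor
    · intro h0
      by_contra hne
      rw [Nat.mod_eq_of_lt (by omega)] at h0
      omega
    · intro h0
      rw [h0, Nat.mod_self]
  · rw [Pi.single_eq_of_ne hi, Pi.single_eq_of_ne (by
      intro e; exact hi (by rw [← e, Equiv.apply_symm_apply])), map_zero, mul_zero, mul_zero]

theorem stdIsoc_isoclinic (hτ : Tw τ) (d : ℤ) {h : ℕ} (hh : 0 < h) :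
    Isoc.IsIsoclinic (Isoc.stdIsoc τ d h) ((d : ℚ) / h) := by
  set F := Isoc.stdIsoc τ d h
  set e : Fin h → (Fin h → K(p, k)) := fun j => Pi.single j 1
  have h0 : ∀ j : ℕ, (hj : j < h) → (⇑F)^[j] (e ⟨0, hh⟩) = e ⟨j, hj⟩ := by
    intro j
    induction j with
    | zero => intro _; rfl
    | succ j ih =>
      intro hj
      rw [Function.iterate_succ_apply', ih (by omega)]
      change F (Pi.single _ 1) = _
      rw [stdIsoc_single hτ, if_neg (show ¬ (⟨j, by omega⟩ : Fin h).val + 1 = h by change ¬ j + 1 = h; omega), one_smul]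
      congr 1
      exact Fin.ext (by rw [finRotate_val]; exact Nat.mod_eq_of_lt hj)
  have hh' : (⇑F)^[h] (e ⟨0, hh⟩) = (p : K(p, k)) ^ d • e ⟨0, hh⟩ := by
    obtain ⟨m, hm⟩ : ∃ m, h = m + 1 := ⟨h - 1, by omega⟩
    rw [show (⇑F)^[h] = (⇑F)^[m + 1] by rw [← hm], Function.iterate_succ_apply', h0 m (by omega)]
    change F (Pi.single _ 1) = _
    rw [stdIsoc_single hτ, if_pos (show (⟨m, by omega⟩ : Fin h).val + 1 = h from hm.symm)]
    congr 2
    exact Fin.ext (by rw [finRotate_val]; change (m + 1) % h = 0; rw [← hm, Nat.mod_self])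
  have hall : ∀ j : Fin h, (⇑F)^[h] (e j) = (p : K(p, k)) ^ d • e j := by
    intro j
    calc (⇑F)^[h] (e j) = (⇑F)^[h] ((⇑F)^[j.val] (e ⟨0, hh⟩)) := by rw [h0 j.val j.isLt]
      _ = (⇑F)^[j.val] ((⇑F)^[h] (e ⟨0, hh⟩)) := by
        rw [← Function.iterate_add_apply, ← Function.iterate_add_apply, add_comm]
      _ = _ := by rw [hh', iterate_pz_smul hτ, h0 j.val j.isLt]
  refine ⟨Submodule.span (WittVector p k) (Set.range e), ⟨Submodule.fg_span (Set.finite_range _), ?_⟩, d, h, hh, by norm_cast, ?_⟩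
  · rw [Submodule.span_span_of_tower, eq_top_iff]
    intro x _
    rw [Submodule.mem_span_range_iff_exists_fun]
    exact ⟨x, by funext i; simp [e, Finset.sum_apply, Pi.single_apply]⟩
  · refine le_antisymm (latImg_le_iff.2 fun x hx => ?_) fun y hy => ?_
    · obtain ⟨σ, hσ⟩ := iterate_smulW hτ F h
      rw [Submodule.mem_span_range_iff_exists_fun] at hx
      obtain ⟨c, rfl⟩ := hx
      rw [show (⇑F)^[h] (∑ i, c i • e i) = ∑ i, (⇑F)^[h] (c i • e i) from map_sum (Isoc.iter F h) _ _]
      refine Submodule.sum_mem _ fun i _ => ?_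
      rw [hσ, hall]
      exact Submodule.smul_mem _ _ (pz_smul_mem_pPow (Submodule.subset_span ⟨i, rfl⟩))
    · rw [mem_pPow, Submodule.mem_span_range_iff_exists_fun] at hy
      obtain ⟨c, hc⟩ := hy
      have : y = ∑ i, c i • (⇑F)^[h] (e i) := by
        simp only [hall, smul_comm _ ((p : K(p, k)) ^ d)]
        rw [← Finset.smul_sum, hc, smul_smul, ← zpow_add₀ p_ne, add_neg_cancel, zpow_zero, one_smul]
      rw [this]
      exact Submodule.sum_mem _ fun i _ => Submodule.smul_mem _ _
        (Submodule.subset_span ⟨e i, Submodule.subset_span ⟨i, rfl⟩, rfl⟩)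

theorem stdIsoc_simple [PerfectRing k p] (hτ : Tw τ) (d : ℤ) {h : ℕ} (hh : 0 < h) (hdh : Int.gcd d h = 1)
    (P : Submodule K(p, k) (Fin h → K(p, k))) (hP : ∀ x ∈ P, Isoc.stdIsoc τ d h x ∈ P) : P = ⊥ ∨ P = ⊤ := by
  set F := Isoc.stdIsoc τ d h
  have hb := stdIsoc_bijective (p := p) (k := k) hτ d h
  have hP' := (restrict_isIsoclinic_iff hτ F hP _).2
    (((isIsoclinic_iff_isoOn_top F _).1 (stdIsoc_isoclinic hτ d hh)).inter hτ hb.1 le_top hP)
  obtain ⟨M, hM, r, s, hs, hrs, he⟩ := hP'
  let b := Module.finBasis K(p, k) P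
  obtain ⟨e, hd⟩ := exists_isOrdP_detCoeff hτ b (F.restrict hP) (restrict_bijective hτ hb.1 hP).2
  have hmul := eq_mul_of_latImg_eq b hτ hd hM he
  set h' := Module.finrank K(p, k) P
  have key : d * h' = e * h := by
    have h1 : (r : ℚ) * h = d * s := by
      rwa [div_eq_div_iff (by exact_mod_cast hs.ne') (by exact_mod_cast hh.ne')] at hrs
    have h2 : r * (h : ℤ) = d * s := by exact_mod_cast h1
    have hs0 : (s : ℤ) ≠ 0 := by exact_mod_cast hs.ne'
    apply mul_left_cancel₀ hs0
    calc (s : ℤ) * (d * h') = (d * s) * h' := by ring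
      _ = (r * h') * h := by rw [← h2]; ring
      _ = _ := by rw [hmul]; ring
  have hdvd : (h : ℤ) ∣ h' := by
    have hco : IsCoprime (h : ℤ) d := (Int.isCoprime_iff_gcd_eq_one.2 hdh).symm
    exact hco.dvd_of_dvd_mul_left ⟨e, by rw [key, mul_comm]⟩
  obtain ⟨c, hc⟩ := Int.natCast_dvd_natCast.1 hdvd
  have hle : h' ≤ h := by
    have := Submodule.finrank_le P
    rwa [Module.finrank_fin_fun] at this
  rcases Nat.eq_zero_or_pos c with hc0 | hc0
  · exact Or.inl (Submodule.finrank_eq_zero.1 (show Module.finrank K(p, k) P = 0 by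
      change h' = 0; rw [hc, hc0, mul_zero]))
  · refine Or.inr (Submodule.eq_top_of_finrank_eq ?_)
    rw [Module.finrank_fin_fun]
    change h' = h
    have := Nat.le_mul_of_pos_right h hc0
    omega

end Groth.Misc12.Isoc
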