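import Groth.Agent.Misc12.Isoc.Decomp
import Groth.Agent.Misc12.Isoc.Std
import Groth.Agent.SGA7.QLinear
import Mathlib.FieldTheory.IsAlgClosed.Basic
import Mathlib.LinearAlgebra.Matrix.ToLinearEquiv

/-!
The Dieudonné–Manin classification over an algebraically closed field.
-/

set_option autoImplicit false
set_option linter.unusedSectionVars false
set_option linter.style.haveILetI false

noncomputable section

open scoped Pointwise Isocrystal

universe u v

namespace Groth.Misc12.Isoc

variable {p : ℕ} [Fact p.Prime] {k : Type u} [Field k] [CharP k p] [PerfectRing k p]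
variable {N : Type v} [AddCommGroup N] [Module (WittVector p k) N] [Module K(p, k) N]
  [IsScalarTower (WittVector p k) K(p, k) N]
variable {τ : K(p, k) →+* K(p, k)}

local notation "am" => algebraMap (WittVector p k) (FractionRing (WittVector p k))

theorem coeff_zero_eq_zero_iff (w : WittVector p k) : w.coeff 0 = 0 ↔ ∃ r, w = (p : WittVector p k) * r := by
  constructor
  · intro hw
    rcases eq_or_ne w 0 with rfl | hne
    · exact ⟨0, by simp⟩
    obtain ⟨n, u, hu⟩ := IsDiscreteValuationRing.eq_unit_mul_pow_irreducible hne (WittVector.irreducible p)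
    rcases Nat.eq_zero_or_pos n with rfl | hn
    · exfalso
      have h1 : IsUnit (WittVector.constantCoeff w) := by
        rw [hu, pow_zero, mul_one]; exact u.isUnit.map _
      exact h1.ne_zero hw
    · obtain ⟨m, rfl⟩ : ∃ m, n = m + 1 := ⟨n - 1, by omega⟩
      exact ⟨(u : WittVector p k) * (p : WittVector p k) ^ m, by rw [hu, pow_succ]; ring⟩
  · rintro ⟨r, rfl⟩
    change WittVector.constantCoeff ((p : WittVector p k) * r) = 0
    rw [map_mul, map_natCast, CharP.cast_eq_zero, zero_mul]

variable [IsAlgClosed k]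

/-- Lang's theorem: a lattice-preserving Frobenius-semilinear bijection has a basis of fixed vectors. -/
theorem span_fixed_pos {σ : WittVector p k ≃+* WittVector p k} (hσ : ∀ w, τ (am w) = am (σ w))
    {q : ℕ} (hq1 : 1 < q) (hqk : (q : k) = 0) (hres : ∀ w, (σ w).coeff 0 = w.coeff 0 ^ q)
    (G : N →ₛₗ[τ] N) [Module.Finite K(p, k) N] {M : Submodule (WittVector p k) N}
    (hM : M.IsLattice K(p, k)) (hGM : Isoc.latImg G 1 M = M) :
    Submodule.span K(p, k) {x | G x = x} = ⊤ := by
  have hτ : Tw τ := ⟨σ, hσ⟩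
  set h := Module.finrank K(p, k) N
  obtain ⟨e, he⟩ := exists_adapted (Module.finBasis K(p, k) N) hM
  let ofW : (Fin h → WittVector p k) →+ N :=
    AddMonoidHom.mk' (fun v => ∑ i, am (v i) • e i) fun v w => by
      simp [add_smul, Finset.sum_add_distrib]
  have hrepr : ∀ v i, e.repr (ofW v) i = am (v i) := fun v i =>
    congrFun (e.repr_sum_self fun j => am (v j)) i
  have hinj : Function.Injective ofW := fun v w hvw => funext fun i =>
    IsFractionRing.injective (WittVector p k) K(p, k) (by rw [← hrepr, hvw, hrepr])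
  have hmem : ∀ x, x ∈ M ↔ ∃ v, ofW v = x := by
    intro x
    rw [he]
    constructor
    · intro hx
      choose v hv using hx
      refine ⟨v, e.repr.injective (Finsupp.ext fun i => ?_)⟩
      rw [hrepr, hv]
    · rintro ⟨v, rfl⟩ i
      exact ⟨v i, hrepr v i⟩
  have hofW_smul : ∀ (c : WittVector p k) v, ofW (c • v) = c • ofW v := by
    intro c v
    change ∑ i, am ((c • v) i) • e i = c • ∑ i, am (v i) • e i
    rw [Finset.smul_sum]
    exact Finset.sum_congr rfl fun i _ => by rw [Pi.smul_apply, smul_eq_mul, map_mul, mul_smul, smulW_eq]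
  have hGe : ∀ j, G (e j) ∈ M := fun j => hGM ▸ (mem_latImg hτ).2 ⟨e j, adapted_mem he j, rfl⟩
  choose C hC using fun j => (hmem _).1 (hGe j)
  let Φ : (Fin h → WittVector p k) → (Fin h → WittVector p k) := fun v => ∑ j, σ (v j) • C j
  have hΦ : ∀ v, G (ofW v) = ofW (Φ v) := by
    intro v
    change G (∑ i, am (v i) • e i) = ofW (∑ j, σ (v j) • C j)
    rw [map_sum, map_sum]
    exact Finset.sum_congr rfl fun j _ => by rw [map_smulₛₗ, hσ, hofW_smul, hC, ← smulW_eq]
  let red : (Fin h → WittVector p k) →+ (Fin h → k) :=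
    AddMonoidHom.mk' (fun v i => WittVector.constantCoeff (v i)) fun v w => funext fun i => map_add _ _ _
  let φ : (Fin h → k) →+ (Fin h → k) :=
    AddMonoidHom.mk' (fun u => ∑ j, u j ^ q • red (C j)) fun u u' => by
      rw [← Finset.sum_add_distrib]
      refine Finset.sum_congr rfl fun j _ => ?_
      obtain ⟨w, hw⟩ := WittVector.constantCoeff_surjective (p := p) (u j)
      obtain ⟨w', hw'⟩ := WittVector.constantCoeff_surjective (p := p) (u' j)
      rw [← add_smul, Pi.add_apply, ← hw, ← hw', ← map_add]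
      change (w + w').coeff 0 ^ q • _ = (w.coeff 0 ^ q + w'.coeff 0 ^ q) • _
      rw [← hres, ← hres, ← hres, map_add]
      exact congrArg (· • red (C j)) (map_add WittVector.constantCoeff (σ w) (σ w'))
  have hred : ∀ v, red (Φ v) = φ (red v) := by
    intro v
    change red (∑ j, σ (v j) • C j) = ∑ j, (red v j) ^ q • red (C j)
    rw [map_sum]
    refine Finset.sum_congr rfl fun j _ => funext fun i => ?_
    change WittVector.constantCoeff (σ (v j) * C j i) = (v j).coeff 0 ^ q * WittVector.constantCoeff (C j i)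
    rw [map_mul, ← hres]
    rfl
  have hlift : ∀ u : Fin h → k, ∃ v, red v = u := fun u => by
    choose v hv using fun i => WittVector.constantCoeff_surjective (p := p) (u i)
    exact ⟨v, funext hv⟩
  have hφl : Groth.SGA7.QLin.IsQLin (k := k) q φ := by
    intro c u
    change ∑ j, (c • u) j ^ q • red (C j) = c ^ q • ∑ j, u j ^ q • red (C j)
    rw [Finset.smul_sum]
    exact Finset.sum_congr rfl fun j _ => by rw [Pi.smul_apply, smul_eq_mul, mul_pow, mul_smul]
  have hφs : Submodule.span k (Set.range φ) = ⊤ := by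
    rw [eq_top_iff]
    rintro u -
    obtain ⟨v, rfl⟩ := hlift u
    obtain ⟨x, hx, hxe⟩ := (mem_latImg hτ).1 (show ofW v ∈ Isoc.latImg G 1 M by rw [hGM]; exact (hmem _).2 ⟨v, rfl⟩)
    obtain ⟨w, rfl⟩ := (hmem x).1 hx
    rw [Function.iterate_one, hΦ] at hxe
    exact Submodule.subset_span ⟨red w, by rw [← hred, hinj hxe]⟩
  obtain ⟨bk, hbk⟩ := Groth.SGA7.QLin.exists_basis_fixed hq1 hqk hφl hφs
  have hdiv : ∀ v, red v = 0 → ∃ r, v = (p : WittVector p k) • r := by
    intro v hv
    choose r hr using fun i => (coeff_zero_eq_zero_iff (v i)).1 (congrFun hv i)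
    exact ⟨r, funext hr⟩
  have hΦp : ∀ (c : ℕ) v, Φ ((p : WittVector p k) ^ c • v) = (p : WittVector p k) ^ c • Φ v := by
    intro c v
    change ∑ j, σ (((p : WittVector p k) ^ c • v) j) • C j = _
    rw [Finset.smul_sum]
    exact Finset.sum_congr rfl fun j _ => by
      rw [Pi.smul_apply, smul_eq_mul, map_mul, map_pow, map_natCast, mul_smul]
  have hΦadd : ∀ v w, Φ (v + w) = Φ v + Φ w := by
    intro v w
    refine hinj ?_
    rw [← hΦ, map_add, map_add, map_add, hΦ, hΦ]
  have hfix : ∀ u, φ u = u → ∃ x, G x = x ∧ ∃ v, red v = u ∧ ofW v = x := by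
    intro u hu
    have step : ∀ (n : ℕ) (v r : Fin h → WittVector p k), Φ v - v = (p : WittVector p k) ^ (n + 1) • r →
        ∃ t r', Φ (v + (p : WittVector p k) ^ (n + 1) • t) - (v + (p : WittVector p k) ^ (n + 1) • t)
          = (p : WittVector p k) ^ (n + 2) • r' := by
      intro n v r hv
      obtain ⟨s, hs⟩ := Groth.SGA7.QLin.sub_surjective hq1 hqk hφl (red r)
      obtain ⟨t, rfl⟩ := hlift s
      obtain ⟨r', hr'⟩ := hdiv (r + Φ t - t) (by
        rw [map_sub, map_add, hred, ← hs]
        change red t - φ (red t) + φ (red t) - red t = 0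
        abel)
      refine ⟨t, r', ?_⟩
      rw [hΦadd, hΦp, pow_succ _ (n + 1), mul_smul, ← hr', smul_sub, smul_add, ← hv]
      abel
    obtain ⟨v0, hv0⟩ := hlift u
    obtain ⟨r0, hr0⟩ := hdiv (Φ v0 - v0) (by rw [map_sub, hred, hv0, hu, sub_self])
    choose! tf rf hstep using step
    let sq : ℕ → (Fin h → WittVector p k) × (Fin h → WittVector p k) := fun n =>
      Nat.rec (v0, r0) (fun n vr => (vr.1 + (p : WittVector p k) ^ (n + 1) • tf n vr.1 vr.2, rf n vr.1 vr.2)) n
    have hsq : ∀ n, Φ (sq n).1 - (sq n).1 = (p : WittVector p k) ^ (n + 1) • (sq n).2 := by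
      intro n
      induction n with
      | zero => change Φ v0 - v0 = _; rw [hr0, zero_add, pow_one]; rfl
      | succ n ih => exact hstep n _ _ ih
    have hpp : ∀ (n : ℕ) w, ofW ((p : WittVector p k) ^ n • w) ∈ Isoc.pPow (n : ℤ) M := by
      intro n w
      rw [hofW_smul, smulW_eq, algebraMap_p_pow]
      exact pz_smul_mem_pPow ((hmem _).2 ⟨w, rfl⟩)
    obtain ⟨x, hxM, hx⟩ := exists_lim (Module.finBasis K(p, k) N) hM (fun n => ofW (sq n).1)
      (fun n => (hmem _).2 ⟨_, rfl⟩) (fun n => by
        change ofW ((sq n).1 + (p : WittVector p k) ^ (n + 1) • tf n (sq n).1 (sq n).2) - ofW (sq n).1 ∈ _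
        rw [map_add, add_sub_cancel_left]
        exact pPow_anti (by omega) M (hpp (n + 1) _))
    have hG0 : G x - x = 0 := by
      refine exists_smul_notMem hM ?_ ?_
      · exact sub_mem (hGM ▸ (mem_latImg hτ).2 ⟨x, hxM, rfl⟩) hxM
      · intro n
        have h1 : G (x - ofW (sq n).1) ∈ Isoc.pPow (n : ℤ) M := by
          have := (mem_latImg hτ (F := G) (s := 1)).2 ⟨_, hx n, rfl⟩
          rwa [latImg_pPow hτ, hGM] at this
        have h2 : G (ofW (sq n).1) - ofW (sq n).1 ∈ Isoc.pPow (n : ℤ) M := by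
          rw [hΦ, ← map_sub, hsq, pow_succ, mul_smul]
          exact hpp n _
        have := add_mem (sub_mem h1 (hx n)) h2
        rw [map_sub] at this
        convert this using 1
        abel
    obtain ⟨v, rfl⟩ := (hmem x).1 hxM
    refine ⟨ofW v, sub_eq_zero.1 hG0, v, ?_, rfl⟩
    have h1 : ∀ n, red (sq n).1 = u := by
      intro n
      induction n with
      | zero => exact hv0
      | succ n ih =>
        change red ((sq n).1 + (p : WittVector p k) ^ (n + 1) • tf n (sq n).1 (sq n).2) = u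
        rw [map_add, ih, add_eq_left]
        funext i
        change WittVector.constantCoeff ((p : WittVector p k) ^ (n + 1) * _) = 0
        rw [map_mul, map_pow, map_natCast, CharP.cast_eq_zero, zero_pow (by omega), zero_mul]
    have h2 := (adapted_mem_pPow he _ _).1 (hx 1)
    rw [← h1 1]
    funext i
    obtain ⟨w, hw⟩ := h2 i
    rw [map_sub, Finsupp.sub_apply, hrepr, hrepr, ← map_sub, ← algebraMap_p_pow, ← map_mul] at hw
    have hw' := congrArg WittVector.constantCoeff (IsFractionRing.injective (WittVector p k) K(p, k) hw)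
    rw [map_sub, map_mul, map_pow, map_natCast, CharP.cast_eq_zero, zero_pow one_ne_zero, zero_mul,
      sub_eq_zero] at hw'
    exact hw'
  have hfr : Module.finrank k (Fin h → k) = h := Module.finrank_fin_fun k
  let bh : Module.Basis (Fin h) k (Fin h → k) := bk.reindex (finCongr hfr)
  choose x hx V hV hVx using fun j => hfix (bh j) (by simp only [bh, Module.Basis.reindex_apply]; exact hbk _)
  have hli : LinearIndependent K(p, k) x := by
    rw [Fintype.linearIndependent_iff]
    intro g hg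
    let A : Matrix (Fin h) (Fin h) (WittVector p k) := Matrix.of fun i j => V j i
    have hdet : (A.map am).det ≠ 0 := by
      have hA : A.map WittVector.constantCoeff = (Pi.basisFun k (Fin h)).toMatrix bh := by
        ext i j
        rw [Module.Basis.toMatrix_apply, Pi.basisFun_repr, ← hV j]
        rfl
      have h0 : (A.map WittVector.constantCoeff).det ≠ 0 := by
        rw [hA]
        exact ((Pi.basisFun k (Fin h)).isUnit_det bh).ne_zero
      intro h1
      rw [← RingHom.mapMatrix_apply, ← RingHom.map_det] at h1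
      apply h0
      rw [← RingHom.mapMatrix_apply, ← RingHom.map_det,
        (map_eq_zero_iff _ (IsFractionRing.injective (WittVector p k) K(p, k))).1 h1, map_zero]
    refine congrFun (Matrix.eq_zero_of_mulVec_eq_zero hdet ?_)
    funext i
    have h2 := DFunLike.congr_fun (congrArg e.repr hg) i
    simp only [map_sum, map_smul, Finsupp.coe_finsetSum, Finset.sum_apply, Finsupp.smul_apply,
      smul_eq_mul, ← hVx, hrepr, map_zero, Finsupp.coe_zero, Pi.zero_apply] at h2
    rw [Pi.zero_apply, ← h2]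
    change ∑ j, (A.map am) i j * g j = _
    refine Finset.sum_congr rfl fun j _ => ?_
    exact mul_comm _ _
  rw [eq_top_iff, ← hli.span_eq_top_of_card_eq_finrank' (Fintype.card_fin _)]
  exact Submodule.span_mono (by rintro _ ⟨j, rfl⟩; exact hx j)

/-- The twist is a positive or negative power of Frobenius on residues. -/
def FrobLike (τ : K(p, k) →+* K(p, k)) : Prop :=
  ∃ σ : WittVector p k ≃+* WittVector p k, (∀ w, τ (am w) = am (σ w)) ∧ ∃ q : ℕ, 1 < q ∧ (q : k) = 0 ∧
    ((∀ w, (σ w).coeff 0 = w.coeff 0 ^ q) ∨ ∀ w, (σ w).coeff 0 ^ q = w.coeff 0)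

omit [IsAlgClosed k] in
theorem FrobLike.tw {τ : K(p, k) →+* K(p, k)} (hτ : FrobLike τ) : Tw τ :=
  let ⟨σ, hσ, _⟩ := hτ
  ⟨σ, hσ⟩

omit [IsAlgClosed k] in
theorem frobLike_frob {a : ℤ} (ha : a ≠ 0) {h : ℕ} (hh : 0 < h) : FrobLike (Isoc.frob p k a ^ h) := by
  have hcomm : ∀ (j : ℕ) (w : WittVector p k), (Isoc.frob p k a ^ j) (am w)
      = am (((WittVector.frobeniusEquiv p k ^ a) ^ j) w) := by
    intro j
    induction j with
    | zero => intro w; rfl
    | succ j ih =>
      intro w
      rw [pow_succ', pow_succ', RingHom.coe_mul, Function.comp_apply, ih, Isoc.frob_algebraMap]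
      rfl
  have hcoeff : ∀ (n : ℕ) (w : WittVector p k),
      ((WittVector.frobeniusEquiv p k ^ n) w).coeff 0 = w.coeff 0 ^ p ^ n := by
    intro n
    induction n with
    | zero => intro w; simp
    | succ n ih =>
      intro w
      rw [pow_succ', RingAut.mul_apply, WittVector.frobeniusEquiv_apply, WittVector.coeff_frobenius_charP, ih,
        ← pow_mul, ← pow_succ]
  refine ⟨(WittVector.frobeniusEquiv p k ^ a) ^ h, hcomm h, p ^ (a.natAbs * h),
    Nat.one_lt_pow (by simp [ha, hh.ne']) (Fact.out : p.Prime).one_lt,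
    by rw [Nat.cast_pow, CharP.cast_eq_zero, zero_pow (by simp [ha, hh.ne'])], ?_⟩
  rcases Int.natAbs_eq a with e | e
  · left
    intro w
    conv_lhs => rw [e, zpow_natCast, ← pow_mul]
    exact hcoeff _ w
  · right
    intro w
    rw [← hcoeff]
    conv_lhs => rw [e, zpow_neg, zpow_natCast, inv_pow, ← pow_mul, Int.natAbs_neg, Int.natAbs_natCast]
    rw [← RingAut.mul_apply, mul_inv_cancel, RingAut.one_apply]

theorem span_fixed (hτ : FrobLike τ) (G : N →ₛₗ[τ] N) (hG : Function.Bijective G) [Module.Finite K(p, k) N]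
    {M : Submodule (WittVector p k) N} (hM : M.IsLattice K(p, k)) (hGM : Isoc.latImg G 1 M = M) :
    Submodule.span K(p, k) {x | G x = x} = ⊤ := by
  obtain ⟨σ, hσ, q, hq1, hqk, hres | hres⟩ := hτ
  · exact span_fixed_pos hσ hq1 hqk hres G hM hGM
  · let τ' : K(p, k) →+* K(p, k) :=
      (IsFractionRing.ringEquivOfRingEquiv (K := K(p, k)) (L := K(p, k)) σ.symm).toRingHom
    have hσ' : ∀ w, τ' (am w) = am (σ.symm w) := fun w =>
      IsFractionRing.ringEquivOfRingEquiv_algebraMap _ w
    have hinv : ∀ c, τ (τ' c) = c := fun c => by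
      obtain ⟨a, b, hb, rfl⟩ := IsFractionRing.div_surjective (A := WittVector p k) c
      simp only [map_div₀, hσ', hσ, RingEquiv.apply_symm_apply]
    have hr : ∀ x, G (Function.surjInv hG.2 x) = x := Function.surjInv_eq hG.2
    let G' : N →ₛₗ[τ'] N :=
      { toFun := Function.surjInv hG.2
        map_add' := fun x y => hG.1 (by rw [map_add, hr, hr, hr])
        map_smul' := fun c x => hG.1 (by rw [map_smulₛₗ, hinv, hr, hr]) }
    have hσres : ∀ w, (σ.symm w).coeff 0 = w.coeff 0 ^ q := fun w => by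
      rw [← hres (σ.symm w), RingEquiv.apply_symm_apply]
    have hG'M : Isoc.latImg G' 1 M = M := by
      ext y
      rw [mem_latImg ⟨σ.symm, hσ'⟩]
      constructor
      · rintro ⟨x, hx, rfl⟩
        obtain ⟨z, hz, rfl⟩ := (mem_latImg ⟨σ, hσ⟩).1 (hGM.symm ▸ hx : x ∈ Isoc.latImg G 1 M)
        change Function.surjInv hG.2 (G z) ∈ M
        rw [hG.1 (hr (G z))]
        exact hz
      · intro hy
        exact ⟨G y, hGM ▸ (mem_latImg ⟨σ, hσ⟩).2 ⟨y, hy, rfl⟩, hG.1 (hr (G y))⟩
    rw [← span_fixed_pos hσ' hq1 hqk hσres G' hM hG'M]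
    congr 1
    ext x
    constructor
    · intro hx; exact hG.1 ((hr x).trans hx.symm)
    · intro hx; exact (congrArg G hx).symm.trans (hr x)

variable {a : ℤ}

/-- An isoclinic isocrystal of slope `μ` is spanned by the solutions of `F ^ h x = p ^ d • x`. -/
theorem span_slope_fixed (ha : a ≠ 0) (F : N →ₛₗ[Isoc.frob p k a] N) (hF : Function.Bijective F)
    [Module.Finite K(p, k) N] (μ : ℚ) (hμ : Isoc.IsIsoclinic F μ) :
    Submodule.span K(p, k) {x | (⇑F)^[μ.den] x = (p : K(p, k)) ^ μ.num • x} = ⊤ := by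
  obtain ⟨M, hM, r, s, hs, hrs, hMe⟩ := hμ
  have hτ := tw_frob (p := p) (k := k) a
  have key : r * (μ.den : ℤ) = μ.num * s := by
    have h1 : (r : ℚ) / s = (μ.num : ℚ) / μ.den := by rw [hrs, Rat.num_div_den]
    rw [div_eq_div_iff (by exact_mod_cast hs.ne') (by exact_mod_cast μ.den_nz)] at h1
    exact_mod_cast h1
  have hdvd : (μ.den : ℤ) ∣ (s : ℤ) := by
    have hco : IsCoprime (μ.den : ℤ) μ.num :=
      (Int.isCoprime_iff_gcd_eq_one.2 (by rw [Int.gcd_eq_natAbs]; simpa using μ.reduced)).symm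
    exact hco.dvd_of_dvd_mul_left ⟨r, by rw [← key]; ring⟩
  obtain ⟨t, rfl⟩ := Int.natCast_dvd_natCast.1 hdvd
  have ht : r = μ.num * t := by
    apply mul_right_cancel₀ (show (μ.den : ℤ) ≠ 0 by exact_mod_cast μ.den_nz)
    rw [key]; push_cast; ring
  have ht0 : 0 < t := Nat.pos_of_mul_pos_left hs
  set G := twist F (-μ.num) μ.den with hGdef
  have hGt : Isoc.latImg G t M = M := by
    rw [latImg_twist hτ, hMe, pPow_pPow, ht]
    convert pPow_zero M using 2
    ring
  have hGs := twist_surjective hF.2 (-μ.num) μ.den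
  set M' := chain G M (t - 1)
  have hGM' : Isoc.latImg G 1 M' = M' := by
    refine le_antisymm ?_ (chain_le_iff.2 fun i hi => ?_)
    · rw [latImg_chain (hτ.pow _), chain_le_iff]
      intro i hi
      rw [← latImg_add (hτ.pow _)]
      rcases Nat.lt_or_ge (i + 1) t with hl | hl
      · exact le_chain (by omega)
      · rw [show i + 1 = t by omega, hGt]
        simpa using le_chain (G := G) (M := M) (i := 0) (Nat.zero_le (t - 1))
    · rcases i with _ | i
      · rw [latImg_zero]
        conv_lhs => rw [← hGt, show t = 1 + (t - 1) by omega, latImg_add (hτ.pow _)]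
        exact latImg_mono G 1 (le_chain le_rfl)
      · rw [add_comm i 1, latImg_add (hτ.pow _)]
        exact latImg_mono G 1 (le_chain (by omega))
  have hGb : Function.Bijective G := by
    refine ⟨fun x y hxy => ?_, hGs⟩
    exact hF.1.iterate _ (smul_right_injective N (pz_ne (p := p) (k := k) (-μ.num)) hxy)
  rw [← span_fixed (frobLike_frob ha μ.pos) G hGb (chain_isLattice (hτ.pow _) hGs hM _) hGM']
  congr 1
  ext x
  change _ ↔ (p : K(p, k)) ^ (-μ.num) • (⇑F)^[μ.den] x = x
  rw [zpow_neg, inv_smul_eq_iff₀ (pz_ne _)]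
  rfl

/-- The map from the standard isocrystal determined by a vector. -/
def homOfVec (F : N →ₛₗ[τ] N) (h : ℕ) (v : N) : (Fin h → K(p, k)) →ₗ[K(p, k)] N :=
  ∑ i : Fin h, (LinearMap.proj (R := K(p, k)) i).smulRight ((⇑F)^[i.val] v)

omit [IsAlgClosed k] in
theorem homOfVec_apply (F : N →ₛₗ[τ] N) (h : ℕ) (v : N) (c : Fin h → K(p, k)) :
    homOfVec F h v c = ∑ i : Fin h, c i • (⇑F)^[i.val] v := by
  simp [homOfVec, LinearMap.sum_apply]

omit [IsAlgClosed k] in
theorem homOfVec_comm (F : N →ₛₗ[τ] N) {h : ℕ} {d : ℤ} {v : N} (hv : (⇑F)^[h] v = (p : K(p, k)) ^ d • v)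
    (c : Fin h → K(p, k)) : homOfVec F h v (Isoc.stdIsoc τ d h c) = F (homOfVec F h v c) := by
  rw [homOfVec_apply, homOfVec_apply, map_sum, ← Equiv.sum_comp (finRotate h)]
  refine Finset.sum_congr rfl fun j _ => ?_
  rw [Isoc.stdIsoc_apply, Equiv.symm_apply_apply, map_smulₛₗ, finRotate_val, ← Function.iterate_succ_apply' F]
  rcases Nat.lt_or_ge (j.val + 1) h with hl | hl
  · rw [Nat.mod_eq_of_lt hl, if_neg (by omega), one_mul]
  · have hj : j.val + 1 = h := by omega
    rw [hj, Nat.mod_self, if_pos rfl, Function.iterate_zero_apply, Nat.succ_eq_add_one, hj, hv, smul_smul,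
      mul_comm]

omit [IsAlgClosed k] in
theorem gcd_num_den (μ : ℚ) : Int.gcd μ.num μ.den = 1 := by
  rw [Int.gcd_eq_natAbs]; simpa using μ.reduced

/-- Every stable subspace has a complement which is a sum of standard isocrystals. -/
theorem exists_std_compl (ha : a ≠ 0) (F : N →ₛₗ[Isoc.frob p k a] N) (hF : Function.Bijective F)
    [Module.Finite K(p, k) N] : ∀ (n : ℕ) (P : Submodule K(p, k) N), (∀ x ∈ P, F x ∈ P) →
      Module.finrank K(p, k) N ≤ Module.finrank K(p, k) P + n →
    ∃ (t : ℕ) (μ : Fin t → ℚ) (E : ((i : Fin t) → (Fin (μ i).den → K(p, k))) →ₗ[K(p, k)] N),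
      Function.Injective E ∧ IsCompl P (LinearMap.range E) ∧
      ∀ c, E (fun i => Isoc.stdIsoc (Isoc.frob p k a) (μ i).num (μ i).den (c i)) = F (E c) := by
  intro n
  induction n with
  | zero =>
    intro P _ hn
    have hP : P = ⊤ := Submodule.eq_top_of_finrank_eq (le_antisymm (Submodule.finrank_le P) (by omega))
    refine ⟨0, Fin.elim0, 0, fun x y _ => funext fun i => i.elim0, ?_, fun c => by simp⟩
    rw [LinearMap.range_zero, hP]
    exact isCompl_top_bot
  | succ n ih =>
    intro P hP hn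
    by_cases hlt : Module.finrank K(p, k) N ≤ Module.finrank K(p, k) P + n
    · exact ih P hP hlt
    have hτ := tw_frob (p := p) (k := k) a
    obtain ⟨μ, v, hv, hvP⟩ : ∃ (μ : ℚ) (v : N),
        (⇑F)^[μ.den] v = (p : K(p, k)) ^ μ.num • v ∧ v ∉ P := by
      by_contra hcon
      push Not at hcon
      have hall : ∀ μ, Isoc.slopePart F μ ≤ P := by
        intro μ
        obtain ⟨hst, hiso, -⟩ := slopePart_spec hτ F μ
        have := span_slope_fixed ha (F.restrict hst) (restrict_bijective hτ hF.1 hst) μ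
          ((restrict_isIsoclinic_iff hτ F hst μ).2 hiso)
        intro x hx
        suffices (⟨x, hx⟩ : Isoc.slopePart F μ) ∈ P.comap (Isoc.slopePart F μ).subtype from this
        refine Submodule.span_le.2 (fun y hy => ?_) (this.symm ▸ Submodule.mem_top)
        refine hcon μ y.1 ?_
        have h2 := (iterate_comm (F.restrict hst) F (Isoc.slopePart F μ).subtype (P := ⊤) (fun _ _ => trivial)
          (fun _ _ => rfl) μ.den (x := y) trivial).2
        exact h2.symm.trans (congrArg Subtype.val hy)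
      have hsup := (isInternal_slopePart hτ hF.1 (F := F)).submodule_iSup_eq_top
      have hPtop : P = ⊤ := top_le_iff.1 (hsup.ge.trans (iSup_le hall))
      rw [hPtop, finrank_top] at hlt
      omega
    set φ := homOfVec F μ.den v
    have hφ := homOfVec_comm F hv
    have hv0 : φ (Pi.single ⟨0, μ.pos⟩ 1) = v := by
      rw [homOfVec_apply, Finset.sum_eq_single (⟨0, μ.pos⟩ : Fin μ.den)
        (fun j _ hj => by rw [Pi.single_eq_of_ne hj, zero_smul]) (by simp)]
      rw [Pi.single_eq_same, one_smul]; rfl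
    have hker : (P.comap φ) = ⊥ := by
      refine (stdIsoc_simple hτ μ.num μ.pos (gcd_num_den μ) (P.comap φ) fun c hc => ?_).resolve_right ?_
      · change φ _ ∈ P
        rw [hφ]
        exact hP _ hc
      · intro htop
        apply hvP
        rw [← hv0]
        exact (htop.symm ▸ Submodule.mem_top : Pi.single (⟨0, μ.pos⟩ : Fin μ.den) (1 : K(p, k)) ∈ P.comap φ)
    have hzero : ∀ c, φ c ∈ P → c = 0 := fun c hc => by
      have : c ∈ P.comap φ := hc
      rwa [hker, Submodule.mem_bot] at this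
    set P' := P ⊔ LinearMap.range φ
    have hP' : ∀ x ∈ P', F x ∈ P' := stable_sup hP (by
      rintro _ ⟨c, rfl⟩
      exact ⟨_, hφ c⟩)
    have hlt' : Module.finrank K(p, k) P < Module.finrank K(p, k) P' := by
      refine Submodule.finrank_lt_finrank_of_lt (lt_of_le_of_ne le_sup_left fun he => hvP ?_)
      rw [he]
      exact Submodule.mem_sup_right ⟨_, hv0⟩
    obtain ⟨t, μ', E', hE', hcompl, hE'c⟩ := ih P' hP' (by omega)
    let μs : Fin (t + 1) → ℚ := Fin.cons μ μ'
    let hd : ((i : Fin (t + 1)) → (Fin (μs i).den → K(p, k))) →ₗ[K(p, k)] (Fin μ.den → K(p, k)) :=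
      LinearMap.proj (0 : Fin (t + 1))
    let tl : ((i : Fin (t + 1)) → (Fin (μs i).den → K(p, k))) →ₗ[K(p, k)]
        ((i : Fin t) → (Fin (μ' i).den → K(p, k))) :=
      LinearMap.pi fun i => LinearMap.proj (R := K(p, k)) (Fin.succ i)
    have hsurj : ∀ (x : Fin μ.den → K(p, k)) (y : (i : Fin t) → (Fin (μ' i).den → K(p, k))),
        ∃ c, hd c = x ∧ tl c = y := fun x y =>
      ⟨Fin.cons (α := fun i : Fin (t + 1) => Fin (μs i).den → K(p, k)) x y, rfl, rfl⟩
    have hsep : ∀ x y, φ x + E' y ∈ P → x = 0 ∧ y = 0 := by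
      intro x y hxy
      have h1 : E' y = 0 := by
        refine Submodule.disjoint_def.1 hcompl.disjoint _ ?_ ⟨y, rfl⟩
        rw [show E' y = (φ x + E' y) - φ x by abel]
        exact sub_mem (Submodule.mem_sup_left hxy) (Submodule.mem_sup_right ⟨x, rfl⟩)
      rw [h1, add_zero] at hxy
      exact ⟨hzero x hxy, hE' (h1.trans (map_zero E').symm)⟩
    refine ⟨t + 1, μs, φ.comp hd + E'.comp tl, ?_, ⟨?_, ?_⟩, ?_⟩
    · rw [injective_iff_map_eq_zero]
      intro c hc
      obtain ⟨h1, h2⟩ := hsep (hd c) (tl c) (by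
        rw [show φ (hd c) + E' (tl c) = 0 from hc]; exact P.zero_mem)
      funext i
      refine Fin.cases ?_ (fun i => ?_) i
      · exact h1
      · exact congrFun h2 i
    · rw [Submodule.disjoint_def]
      rintro x hx ⟨c, rfl⟩
      obtain ⟨h1, h2⟩ := hsep (hd c) (tl c) hx
      change φ (hd c) + E' (tl c) = 0
      rw [h1, h2, map_zero, map_zero, add_zero]
    · rw [codisjoint_iff, eq_top_iff]
      intro x _
      obtain ⟨y, hy, z, ⟨c, rfl⟩, rfl⟩ := Submodule.mem_sup.1 (hcompl.sup_eq_top.symm ▸ Submodule.mem_top :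
        x ∈ P' ⊔ LinearMap.range E')
      obtain ⟨p0, hp0, w, ⟨b, rfl⟩, rfl⟩ := Submodule.mem_sup.1 hy
      obtain ⟨cc, hc1, hc2⟩ := hsurj b c
      refine Submodule.mem_sup.2 ⟨p0, hp0, _, ⟨cc, rfl⟩, ?_⟩
      change p0 + (φ (hd cc) + E' (tl cc)) = _
      rw [hc1, hc2]
      abel
    · intro c
      change φ (Isoc.stdIsoc _ μ.num μ.den (hd c)) +
          E' (fun i => Isoc.stdIsoc _ (μ' i).num (μ' i).den (tl c i)) = F (φ (hd c) + E' (tl c))
      rw [hφ, hE'c, map_add]

omit [IsAlgClosed k] in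
theorem rat_num_den_cast (μ : ℚ) : ((μ.num : ℤ) : ℚ) / ((μ.den : ℕ) : ℚ) = μ := Rat.num_div_den μ

/-- The multiplicities of the slopes of a sum of standard isocrystals. -/
theorem newtonMult_eq {t : ℕ} (μ : Fin t → ℚ) (hτ : Tw τ) (F : N →ₛₗ[τ] N) (hF : Function.Bijective F)
    [Module.Finite K(p, k) N]
    (E : ((i : Fin t) → (Fin (μ i).den → K(p, k))) ≃ₗ[K(p, k)] N)
    (hE : ∀ c, E (fun i => Isoc.stdIsoc τ (μ i).num (μ i).den (c i)) = F (E c)) (ν : ℚ) :
    Isoc.newtonMult F ν = ∑ i : Fin t, if μ i = ν then (μ i).den else 0 := by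
  classical
  let f : (i : Fin t) → (Fin (μ i).den → K(p, k)) →ₗ[K(p, k)] N := fun i =>
    E.toLinearMap.comp (LinearMap.single K(p, k) (fun i : Fin t => Fin (μ i).den → K(p, k)) i)
  have hf : ∀ i x, f i (Isoc.stdIsoc τ (μ i).num (μ i).den x) = F (f i x) := by
    intro i x
    change E (Pi.single i _) = F (E (Pi.single i x))
    rw [← hE]
    congr 1
    funext j
    exact (Pi.apply_single (fun j y => Isoc.stdIsoc τ (μ j).num (μ j).den y) (fun j => map_zero _) i x j).symm
  have hle : ∀ i x, f i x ∈ Isoc.slopePart F (μ i) := by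
    intro i x
    have hiso := ((isIsoclinic_iff_isoOn_top _ _).1
      (stdIsoc_isoclinic (p := p) (k := k) hτ (μ i).num (μ i).pos)).map hτ (F' := F) (f i) (P := ⊤)
      (fun _ _ => trivial) (fun x _ => hf i x)
    rw [rat_num_den_cast] at hiso
    refine (slopePart_spec hτ F (μ i)).2.2 _ ?_ hiso ⟨x, trivial, rfl⟩
    rintro _ ⟨y, -, rfl⟩
    exact ⟨_, trivial, hf i y⟩
  let U : Submodule K(p, k) ((i : Fin t) → (Fin (μ i).den → K(p, k))) :=
    ⨅ i ∈ {i : Fin t | μ i = ν}ᶜ, LinearMap.ker (LinearMap.proj (R := K(p, k)) i)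
  have hU : ∀ c, c ∈ U ↔ ∀ i, μ i ≠ ν → c i = 0 := fun c => by
    simp [U, Submodule.mem_iInf, LinearMap.mem_ker]
  have hdec : ∀ c, E c = ∑ i, f i (c i) := by
    intro c
    conv_lhs => rw [← Finset.univ_sum_single c, map_sum]
    rfl
  have heq : U.map E.toLinearMap = Isoc.slopePart F ν := by
    refine le_antisymm ?_ fun x hx => ?_
    · rintro _ ⟨c, hc, rfl⟩
      change E c ∈ _
      rw [hdec]
      refine Submodule.sum_mem _ fun i _ => ?_
      by_cases hi : μ i = ν
      · exact hi ▸ hle i _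
      · rw [(hU c).1 hc i hi, map_zero]; exact zero_mem _
    · obtain ⟨c, rfl⟩ := E.surjective x
      obtain ⟨hst, hiso, -⟩ := slopePart_spec hτ F ν
      have hdis := disjoint_finset_slopePart hτ hF.1 ((Finset.univ.image μ).erase ν) ν
        (Finset.notMem_erase _ _) _ hst hiso
      let c1 : (i : Fin t) → (Fin (μ i).den → K(p, k)) := fun i => if μ i = ν then c i else 0
      have hc1 : c1 ∈ U := (hU c1).2 fun i hi => if_neg hi
      have hmem1 : E c1 ∈ Isoc.slopePart F ν := by
        rw [hdec]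
        refine Submodule.sum_mem _ fun i _ => ?_
        by_cases hi : μ i = ν
        · exact hi ▸ hle i _
        · rw [show c1 i = 0 from if_neg hi, map_zero]; exact zero_mem _
      have hmem2 : E (c - c1) ∈ ((Finset.univ.image μ).erase ν).sup (Isoc.slopePart F) := by
        rw [hdec]
        refine Submodule.sum_mem _ fun i _ => ?_
        by_cases hi : μ i = ν
        · rw [Pi.sub_apply, show c1 i = c i from if_pos hi, sub_self, map_zero]; exact zero_mem _
        · exact Finset.le_sup (f := Isoc.slopePart F) (Finset.mem_erase.2 ⟨hi, Finset.mem_image_of_mem _ (Finset.mem_univ i)⟩) (hle i _)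
      have hz : E (c - c1) = 0 := by
        rw [← Submodule.mem_bot K(p, k), ← hdis]
        refine ⟨?_, hmem2⟩
        rw [map_sub]
        exact sub_mem hx hmem1
      exact ⟨c1, hc1, by rw [map_sub, sub_eq_zero] at hz; exact hz.symm⟩
  change Module.finrank K(p, k) (Isoc.slopePart F ν) = _
  rw [← heq, LinearEquiv.finrank_map_eq E U,
    (LinearMap.iInfKerProjEquiv K(p, k) (fun i : Fin t => Fin (μ i).den → K(p, k))
      (I := {i : Fin t | μ i = ν}) (J := {i : Fin t | μ i = ν}ᶜ) disjoint_compl_right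
      (by simp)).finrank_eq,
    Module.finrank_pi_fintype, ← Finset.sum_filter]
  simp only [Module.finrank_fin_fun]
  exact (Finset.sum_subtype _ (by simp) fun i => (μ i).den).symm

end Groth.Misc12.Isoc
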