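import Groth.Agent.Misc12.Isoc.Sub
import Mathlib.RingTheory.AdicCompletion.Basic
import Mathlib.Algebra.DirectSum.LinearMap
import Mathlib.LinearAlgebra.Matrix.Block

/-!
The Fitting decomposition of an effective crystal and the slope decomposition of an isocrystal.
-/

set_option autoImplicit false
set_option linter.unusedSectionVars false
set_option linter.style.haveILetI false

noncomputable section

open scoped Pointwise Isocrystal

universe u v

namespace Groth.Misc12.Isoc

variable {p : ℕ} [Fact p.Prime] {k : Type u} [Field k] [CharP k p] [PerfectRing k p]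
variable {N : Type v} [AddCommGroup N] [Module (WittVector p k) N] [Module K(p, k) N]
  [IsScalarTower (WittVector p k) K(p, k) N]
variable {τ : K(p, k) →+* K(p, k)}

local notation "am" => algebraMap (WittVector p k) (FractionRing (WittVector p k))

theorem exists_smul_mem_span {M : Submodule (WittVector p k) N} (hfg : M.FG) {x : N}
    (hx : x ∈ Submodule.span K(p, k) (M : Set N)) : ∃ c : ℕ, (p : K(p, k)) ^ (c : ℤ) • x ∈ M := by
  let S := Submodule.span K(p, k) (M : Set N)
  have hl : (M.comap (resW S.subtype)).IsLattice K(p, k) := by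
    refine ⟨Submodule.fg_of_fg_map_injective _ (show Function.Injective (resW S.subtype) from Subtype.val_injective) ?_, ?_⟩
    · rwa [Submodule.map_comap_eq_self fun y hy => ⟨⟨y, Submodule.subset_span hy⟩, rfl⟩]
    · exact Submodule.span_span_coe_preimage
  exact exists_smul_mem hl (⟨x, hx⟩ : S)

/-- A descending chain of submodules between `p^m M` and `M` stabilises. -/
theorem exists_stable {h : ℕ} (b : Module.Basis (Fin h) K(p, k) N) {M : Submodule (WittVector p k) N}
    (hM : M.IsLattice K(p, k)) (m : ℕ) :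
    ∀ X : ℕ → Submodule (WittVector p k) N, Antitone X → (∀ n, Isoc.pPow (m : ℤ) M ≤ X n) → (∀ n, X n ≤ M) →
      ∃ n₀, ∀ n, n₀ ≤ n → X n = X n₀ := by
  induction m with
  | zero =>
    intro X _ hlo hhi
    refine ⟨0, fun n _ => ?_⟩
    have e : ∀ n, X n = M := fun n => le_antisymm (hhi n) (by simpa using hlo n)
    rw [e, e]
  | succ m ih =>
    intro X hX hlo hhi
    have h1 : ∀ (Z : ℕ → Submodule (WittVector p k) N), Antitone Z → (∀ n, Isoc.pPow 1 M ≤ Z n) → (∀ n, Z n ≤ M) →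
        ∃ n₀, ∀ n, n₀ ≤ n → Z n = Z n₀ := by
      intro Z hZ hzlo hzhi
      by_contra hcon
      push Not at hcon
      choose next hnext hne using hcon
      let φ : ℕ → ℕ := fun i => next^[i] 0
      have hφ : ∀ i, φ i ≤ φ (i + 1) := fun i => by
        change _ ≤ next^[i + 1] 0
        rw [Function.iterate_succ_apply']
        exact hnext _
      obtain ⟨j, hj, heq⟩ := exists_eq_succ b hM (fun j => Z (φ (h + 1 - j)))
        (fun j hj => hZ (by
          rw [show h + 1 - j = h + 1 - (j + 1) + 1 by omega]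
          exact hφ _))
        (fun j _ => hzlo _) (fun j _ => hzhi _)
      have : Z (φ (h + 1 - j)) = Z (φ (h + 1 - (j + 1))) := heq.symm
      rw [show h + 1 - j = h + 1 - (j + 1) + 1 by omega] at this
      refine hne (φ (h + 1 - (j + 1))) ?_
      simpa only [φ, Function.iterate_succ_apply'] using this
    obtain ⟨a, ha⟩ := h1 (fun n => X n ⊔ Isoc.pPow 1 M) (fun i j hij => sup_le_sup_right (hX hij) _)
      (fun n => le_sup_right) (fun n => sup_le (hhi n) (by simpa using pPow_anti (p := p) (k := k) (show (0 : ℤ) ≤ 1 by omega) M))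
    obtain ⟨c, hc⟩ := ih (fun n => Isoc.pPow (-1) (X n ⊓ Isoc.pPow 1 M)) (fun i j hij => pPow_mono _ (inf_le_inf_right _ (hX hij)))
      (fun n => by
        rw [← pPow_le_pPow_iff 1, pPow_pPow, pPow_pPow]
        simp only [Int.add_right_neg, pPow_zero]
        refine le_inf ?_ (pPow_anti (by omega) M)
        rw [add_comm, ← Nat.cast_succ]
        exact hlo n)
      (fun n => by
        rw [← pPow_le_pPow_iff 1, pPow_pPow]
        simp)
    refine ⟨max a c, fun n hn => ?_⟩
    refine eq_of_le_of_inf_le_of_sup_le (z := Isoc.pPow 1 M) (hX hn) ?_ ?_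
    · refine (pPow_le_pPow_iff (p := p) (k := k) (-1)).1 ?_
      exact ((hc n (by omega)).trans (hc _ (by omega)).symm).ge
    · exact ((ha n (by omega)).trans (ha _ (by omega)).symm).ge

theorem exists_lim {h : ℕ} (b : Module.Basis (Fin h) K(p, k) N) {M : Submodule (WittVector p k) N}
    (hM : M.IsLattice K(p, k)) (a : ℕ → N) (ha : ∀ m, a m ∈ M)
    (hc : ∀ m : ℕ, a (m + 1) - a m ∈ Isoc.pPow (m : ℤ) M) : ∃ x ∈ M, ∀ m : ℕ, x - a m ∈ Isoc.pPow (m : ℤ) M := by
  obtain ⟨e, he⟩ := exists_adapted b hM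
  have hc' : ∀ m n : ℕ, m ≤ n → a n - a m ∈ Isoc.pPow (m : ℤ) M := by
    intro m n hmn
    induction n, hmn using Nat.le_induction with
    | base => simp
    | succ n hmn ih =>
      rw [← sub_add_sub_cancel (a (n + 1)) (a n) (a m)]
      exact add_mem (pPow_anti (by exact_mod_cast hmn) M (hc n)) ih
  choose w hw using fun m => (he (a m)).1 (ha m)
  haveI : IsAdicComplete (Ideal.span {(p : WittVector p k)}) (WittVector p k) := inferInstance
  have hlim : ∀ i, ∃ L : WittVector p k, ∀ m, ∃ q, w m i - L = (p : WittVector p k) ^ m * q := by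
    intro i
    obtain ⟨L, hL⟩ := IsPrecomplete.prec' (I := Ideal.span {(p : WittVector p k)}) (M := WittVector p k)
      (fun m => w m i) (fun {m n} hmn => by
        rw [SModEq.sub_mem, smul_eq_mul, Ideal.mul_top, Ideal.span_singleton_pow, Ideal.mem_span_singleton]
        obtain ⟨q, hq⟩ := (adapted_mem_pPow he (m : ℤ) _).1 (hc' m n hmn) i
        rw [map_sub, Finsupp.sub_apply, hw, hw, ← map_sub, ← algebraMap_p_pow, ← map_mul] at hq
        have := IsFractionRing.injective (WittVector p k) K(p, k) hq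
        exact ⟨-q, by rw [mul_neg, ← this]; ring⟩)
    refine ⟨L, fun m => ?_⟩
    have := hL m
    rwa [SModEq.sub_mem, smul_eq_mul, Ideal.mul_top, Ideal.span_singleton_pow, Ideal.mem_span_singleton] at this
  choose L hL using hlim
  have hrepr : ∀ i, e.repr (∑ j, am (L j) • e j) i = am (L i) := fun i => by
    rw [Module.Basis.repr_sum_self]
  refine ⟨∑ j, am (L j) • e j, (he _).2 fun i => ⟨L i, hrepr i⟩, fun m => (adapted_mem_pPow he _ _).2 fun i => ?_⟩
  obtain ⟨q, hq⟩ := hL i m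
  refine ⟨-q, ?_⟩
  rw [map_sub, Finsupp.sub_apply, hrepr, hw, ← map_sub, ← algebraMap_p_pow, ← map_mul, mul_neg, ← hq, neg_sub]

/-- The kernel of `G^n` on `M / p^m M`, pulled back to `M`. -/
def kerMod (hτ : Tw τ) (G : N →ₛₗ[τ] N) (M : Submodule (WittVector p k) N) (m n : ℕ) :
    Submodule (WittVector p k) N where
  carrier := {x | x ∈ M ∧ (⇑G)^[n] x ∈ Isoc.pPow (m : ℤ) M}
  add_mem' {x y} hx hy := by
    refine ⟨add_mem hx.1 hy.1, ?_⟩
    rw [show (⇑G)^[n] (x + y) = _ from map_add (Isoc.iter G n) x y]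
    exact add_mem hx.2 hy.2
  zero_mem' := ⟨zero_mem _, by rw [show (⇑G)^[n] 0 = 0 from map_zero (Isoc.iter G n)]; exact zero_mem _⟩
  smul_mem' c x hx := by
    obtain ⟨σ, hσ⟩ := iterate_smulW hτ G n
    refine ⟨M.smul_mem c hx.1, ?_⟩
    rw [hσ]
    exact Submodule.smul_mem _ _ hx.2

/-- Points contracted to `0` by the iterates of `G`. -/
def contracted (hτ : Tw τ) (G : N →ₛₗ[τ] N) (M : Submodule (WittVector p k) N) : Submodule K(p, k) N where
  carrier := {x | ∀ j : ℤ, ∃ n₀ : ℕ, ∀ n, n₀ ≤ n → (⇑G)^[n] x ∈ Isoc.pPow j M}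
  add_mem' {x y} hx hy j := by
    obtain ⟨a, ha⟩ := hx j
    obtain ⟨c, hc⟩ := hy j
    refine ⟨max a c, fun n hn => ?_⟩
    rw [show (⇑G)^[n] (x + y) = _ from map_add (Isoc.iter G n) x y]
    exact add_mem (ha n (by omega)) (hc n (by omega))
  zero_mem' j := ⟨0, fun n _ => by rw [show (⇑G)^[n] 0 = 0 from map_zero (Isoc.iter G n)]; exact zero_mem _⟩
  smul_mem' c x hx j := by
    rcases eq_or_ne c 0 with rfl | hc
    · exact ⟨0, fun n _ => by rw [zero_smul, show (⇑G)^[n] 0 = 0 from map_zero (Isoc.iter G n)]; exact zero_mem _⟩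
    · obtain ⟨r, hr⟩ := exists_isOrdP hc
      obtain ⟨a, ha⟩ := hx (j - r)
      refine ⟨a, fun n hn => ?_⟩
      obtain ⟨u, hu⟩ := isOrdP_tw (hτ.pow n) hr
      rw [iterate_smul, hu, mul_comm, mul_smul, ← smulW_eq]
      refine Submodule.smul_mem _ _ ?_
      have := pz_smul_mem_pPow (r := r) (ha n hn)
      rwa [pPow_pPow, add_sub_cancel] at this

theorem fitting [Module.Finite K(p, k) N] (hτ : Tw τ) {G : N →ₛₗ[τ] N} (hG : Function.Bijective G)
    {M : Submodule (WittVector p k) N} (hM : M.IsLattice K(p, k)) (hGM : Isoc.latImg G 1 M ≤ M) :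
    ∃ (M₀ : Submodule (WittVector p k) N) (P₁ : Submodule K(p, k) N),
      M₀ ≤ M ∧ M₀.FG ∧ Isoc.latImg G 1 M₀ = M₀ ∧ IsCompl (Submodule.span K(p, k) (M₀ : Set N)) P₁ ∧
      ((∀ n, ¬ Isoc.latImg G n M ≤ Isoc.pPow 1 M) → M₀ ≠ ⊥) ∧
      ∀ {τ' : K(p, k) →+* K(p, k)}, Tw τ' → ∀ F : N →ₛₗ[τ'] N, (∀ x, F (G x) = G (F x)) →
        (∀ x ∈ Submodule.span K(p, k) (M₀ : Set N), F x ∈ Submodule.span K(p, k) (M₀ : Set N)) ∧
        ∀ x ∈ P₁, F x ∈ P₁ := by
  let b := Module.finBasis K(p, k) N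
  have hanti : Antitone fun n => Isoc.latImg G n M :=
    antitone_nat_of_succ_le fun n => by rw [latImg_add hτ]; exact latImg_mono G n hGM
  have hGM' : ∀ n, Isoc.latImg G n M ≤ M := fun n => by simpa using hanti (Nat.zero_le n)
  set M₀ : Submodule (WittVector p k) N := ⨅ n, Isoc.latImg G n M with hM₀
  have hM₀le : M₀ ≤ M := (iInf_le _ 0).trans (hGM' 0)
  haveI := hM
  haveI : IsNoetherian (WittVector p k) M := isNoetherian_of_isNoetherianRing_of_finite _ _
  have hfg0 : M₀.FG := by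
    haveI : IsNoetherian (WittVector p k) M₀ := isNoetherian_of_le hM₀le
    exact Module.Finite.iff_fg.1 inferInstance
  have hGM₀ : Isoc.latImg G 1 M₀ = M₀ := by
    ext y
    rw [mem_latImg hτ, hM₀]
    simp only [Submodule.mem_iInf]
    constructor
    · rintro ⟨x, hx, rfl⟩ n
      refine hanti (Nat.le_succ n) ?_
      change _ ∈ Isoc.latImg G (n + 1) M
      rw [add_comm, latImg_add hτ]
      exact (mem_latImg hτ).2 ⟨x, hx n, rfl⟩
    · intro hy
      obtain ⟨x, -, hx⟩ := (mem_latImg hτ).1 (hy 1)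
      refine ⟨x, fun n => ?_, hx⟩
      obtain ⟨z, hz, hzy⟩ := (mem_latImg hτ).1 (hy (1 + n))
      rw [Function.iterate_add_apply] at hzy
      exact (mem_latImg hτ).2 ⟨z, hz, hG.1 (hzy.trans hx.symm)⟩
  set P₁ := contracted hτ G M
  -- uniform contraction on `M ∩ P₁`
  have hunif : ∀ j : ℤ, ∃ n₀ : ℕ, ∀ n, n₀ ≤ n → ∀ x ∈ M ⊓ P₁.restrictScalars (WittVector p k),
      (⇑G)^[n] x ∈ Isoc.pPow j M := by
    intro j
    haveI : IsNoetherian (WittVector p k) ↥(M ⊓ P₁.restrictScalars (WittVector p k)) := isNoetherian_of_le inf_le_left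
    obtain ⟨S, hS⟩ := Module.Finite.iff_fg.1 (inferInstance : Module.Finite (WittVector p k) ↥(M ⊓ P₁.restrictScalars (WittVector p k)))
    classical
    have hmem : ∀ x ∈ S, x ∈ P₁ := fun x hx => (hS ▸ Submodule.subset_span hx : x ∈ M ⊓ P₁.restrictScalars (WittVector p k)).2
    choose! f hf using fun x (hx : x ∈ S) => hmem x hx j
    refine ⟨S.sup f, fun n hn x hx => ?_⟩
    rw [← hS] at hx
    obtain ⟨σ, hσ⟩ := iterate_smulW hτ G n
    induction hx using Submodule.span_induction with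
    | mem y hy => exact hf y hy n ((Finset.le_sup (f := f) hy).trans hn)
    | zero => rw [show (⇑G)^[n] 0 = 0 from map_zero (Isoc.iter G n)]; exact zero_mem _
    | add y z _ _ hy hz => rw [show (⇑G)^[n] (y + z) = _ from map_add (Isoc.iter G n) y z]; exact add_mem hy hz
    | smul c y _ hy => rw [hσ]; exact Submodule.smul_mem _ _ hy
  have hdisj : Disjoint (Submodule.span K(p, k) (M₀ : Set N)) P₁ := by
    rw [Submodule.disjoint_def]
    intro x hx0 hx1
    obtain ⟨c, hc⟩ := exists_smul_mem_span hfg0 hx0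
    have h1 : (p : K(p, k)) ^ (c : ℤ) • x ∈ P₁ := P₁.smul_mem _ hx1
    set x' := (p : K(p, k)) ^ (c : ℤ) • x
    have : x' = 0 := by
      refine exists_smul_notMem hM (hM₀le hc) fun j => ?_
      obtain ⟨n, hn⟩ := hunif (j : ℤ)
      obtain ⟨y, hy, e⟩ := (mem_latImg hτ).1 ((Submodule.mem_iInf _).1 hc n)
      rw [← e]
      refine hn n le_rfl y ⟨hy, fun i => ?_⟩
      obtain ⟨a, ha⟩ := h1 i
      refine ⟨a + n, fun l hl => ?_⟩
      rw [show l = (l - n) + n by omega, Function.iterate_add_apply, e]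
      exact ha _ (by omega)
    exact (smul_eq_zero.1 this).resolve_left (pz_ne _)
  -- decomposition of `M`
  have hsum : ∀ x ∈ M, ∃ a ∈ M₀, x - a ∈ P₁ := by
    intro x hx
    have hD : ∀ m : ℕ, ∃ n₀, ∀ n, n₀ ≤ n → Isoc.latImg G n M ⊔ Isoc.pPow (m : ℤ) M = Isoc.latImg G n₀ M ⊔ Isoc.pPow (m : ℤ) M :=
      fun m => exists_stable b hM m _ (fun i j hij => sup_le_sup_right (hanti hij) _) (fun n => le_sup_right)
        (fun n => sup_le (hGM' n) (by simpa using pPow_anti (p := p) (k := k) (show (0 : ℤ) ≤ m by omega) M))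
    have hK : ∀ m : ℕ, ∃ n₀, ∀ n, n₀ ≤ n → kerMod hτ G M m n = kerMod hτ G M m n₀ := by
      intro m
      have hmono : Monotone fun n => (kerMod hτ G M m n).comap M.subtype := by
        refine monotone_nat_of_le_succ fun n z hz => ?_
        refine ⟨hz.1, ?_⟩
        rw [Function.iterate_succ_apply']
        refine (show Isoc.latImg G 1 (Isoc.pPow (m : ℤ) M) ≤ Isoc.pPow (m : ℤ) M by
          rw [latImg_pPow hτ]; exact pPow_mono _ hGM) (Submodule.subset_span ⟨_, hz.2, rfl⟩)
      obtain ⟨n₀, hn₀⟩ := monotone_stabilizes_iff_noetherian.2 inferInstance ⟨_, hmono⟩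
      refine ⟨n₀, fun n hn => le_antisymm (fun z hz => ?_) fun z hz => ?_⟩
      · exact (SetLike.ext_iff.1 (hn₀ n hn) ⟨z, hz.1⟩).2 hz
      · exact (SetLike.ext_iff.1 (hn₀ n hn) ⟨z, hz.1⟩).1 hz
    choose fD hfD using hD
    choose fK hfK using hK
    set Nm : ℕ → ℕ := fun m => max (fD m) (fK m)
    have hDm : ∀ m n, Nm m ≤ n → Isoc.latImg G n M ⊔ Isoc.pPow (m : ℤ) M = Isoc.latImg G (Nm m) M ⊔ Isoc.pPow (m : ℤ) M :=
      fun m n hn => (hfD m n (le_trans (le_max_left _ _) hn)).trans (hfD m _ (le_max_left _ _)).symm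
    have hKm : ∀ m n, Nm m ≤ n → kerMod hτ G M m n = kerMod hτ G M m (Nm m) :=
      fun m n hn => (hfK m n (le_trans (le_max_right _ _) hn)).trans (hfK m _ (le_max_right _ _)).symm
    have hsplit : ∀ m : ℕ, ∃ a ∈ Isoc.latImg G (Nm m) M, x - a ∈ kerMod hτ G M m (Nm m) := by
      intro m
      have : (⇑G)^[Nm m] x ∈ Isoc.latImg G (Nm m + Nm m) M ⊔ Isoc.pPow (m : ℤ) M := by
        rw [hDm m _ (by omega)]
        exact Submodule.mem_sup_left (Submodule.subset_span ⟨x, hx, rfl⟩)
      obtain ⟨u, hu, z, hz, e⟩ := Submodule.mem_sup.1 this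
      obtain ⟨y, hy, rfl⟩ := (mem_latImg hτ).1 hu
      refine ⟨(⇑G)^[Nm m] y, Submodule.subset_span ⟨y, hy, rfl⟩, sub_mem hx (hGM' _ (Submodule.subset_span ⟨y, hy, rfl⟩)), ?_⟩
      rw [show (⇑G)^[Nm m] (x - (⇑G)^[Nm m] y) = _ from map_sub (Isoc.iter G _) _ _, Isoc.iter_apply,
        Isoc.iter_apply, ← Function.iterate_add_apply, ← e, add_sub_cancel_left]
      exact hz
    choose a ha hb using hsplit
    have haM : ∀ m, a m ∈ M := fun m => hGM' _ (ha m)
    have hcauchy : ∀ m : ℕ, a (m + 1) - a m ∈ Isoc.pPow (m : ℤ) M := by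
      intro m
      set n := max (Nm (m + 1)) (Nm m)
      have hb' : x - a (m + 1) ∈ kerMod hτ G M m (Nm m) := by
        rw [← hKm m n (le_max_right _ _)]
        have h1 : x - a (m + 1) ∈ kerMod hτ G M (m + 1) n := by
          rw [hKm (m + 1) n (le_max_left _ _)]; exact hb (m + 1)
        exact ⟨h1.1, pPow_anti (by omega) M h1.2⟩
      have hd1 : a (m + 1) - a m ∈ Isoc.latImg G (Nm m) M ⊔ Isoc.pPow (m : ℤ) M := by
        refine sub_mem ?_ (Submodule.mem_sup_left (ha m))
        have h1 : a (m + 1) ∈ Isoc.latImg G n M ⊔ Isoc.pPow ((m + 1 : ℕ) : ℤ) M := by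
          rw [hDm (m + 1) n (le_max_left _ _)]; exact Submodule.mem_sup_left (ha (m + 1))
        rw [← hDm m n (le_max_right _ _)]
        exact (sup_le_sup_left (pPow_anti (by omega) M) _) h1
      have hd2 : a (m + 1) - a m ∈ kerMod hτ G M m (Nm m) := by
        have := sub_mem (hb m) hb'
        rwa [sub_sub_sub_cancel_left] at this
      obtain ⟨u, hu, z, hz, e⟩ := Submodule.mem_sup.1 hd1
      obtain ⟨y, hy, rfl⟩ := (mem_latImg hτ).1 hu
      have hy' : y ∈ kerMod hτ G M m (Nm m) := by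
        rw [← hKm m (Nm m + Nm m) (by omega)]
        refine ⟨hy, ?_⟩
        have h2 := hd2.2
        rw [← e, show (⇑G)^[Nm m] ((⇑G)^[Nm m] y + z) = _ from map_add (Isoc.iter G _) _ _, Isoc.iter_apply,
          ← Function.iterate_add_apply] at h2
        have h3 : (⇑G)^[Nm m] z ∈ Isoc.pPow (m : ℤ) M := by
          refine (show Isoc.latImg G (Nm m) (Isoc.pPow (m : ℤ) M) ≤ Isoc.pPow (m : ℤ) M by
            rw [latImg_pPow hτ]; exact pPow_mono _ (hGM' _)) (Submodule.subset_span ⟨z, hz, rfl⟩)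
        exact (add_mem_cancel_right h3).1 h2
      rw [← e]
      exact add_mem hy'.2 hz
    obtain ⟨A, hA, hAm⟩ := exists_lim b hM a haM hcauchy
    refine ⟨A, (Submodule.mem_iInf _).2 fun n => ?_, fun j => ?_⟩
    · obtain ⟨c, hc⟩ := exists_pPow_le hM.fg (latImg_isLattice hτ hG.2 n hM)
      have h1 : a c ∈ Isoc.latImg G (max n (Nm c)) M ⊔ Isoc.pPow (c : ℤ) M := by
        rw [hDm c _ (le_max_right _ _)]; exact Submodule.mem_sup_left (ha c)
      have h2 : a c ∈ Isoc.latImg G n M := (sup_le (hanti (le_max_left _ _)) hc) h1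
      have := add_mem (hc (hAm c)) h2
      rwa [sub_add_cancel] at this
    · obtain ⟨m, hm⟩ : ∃ m : ℕ, j ≤ (m : ℤ) := ⟨j.toNat, Int.self_le_toNat j⟩
      refine ⟨Nm m, fun n hn => pPow_anti hm M ?_⟩
      rw [show x - A = (x - a m) - (A - a m) by abel, show (⇑G)^[n] ((x - a m) - (A - a m)) = _ from map_sub (Isoc.iter G n) _ _]
      refine sub_mem ?_ ?_
      · exact (show x - a m ∈ kerMod hτ G M m n by rw [hKm m n hn]; exact hb m).2
      · refine (show Isoc.latImg G n (Isoc.pPow (m : ℤ) M) ≤ Isoc.pPow (m : ℤ) M by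
          rw [latImg_pPow hτ]; exact pPow_mono _ (hGM' _)) (Submodule.subset_span ⟨_, hAm m, rfl⟩)
  have hcod : Codisjoint (Submodule.span K(p, k) (M₀ : Set N)) P₁ := by
    rw [codisjoint_iff, eq_top_iff, ← hM.span_eq_top, Submodule.span_le]
    intro x hx
    obtain ⟨a, ha, hxa⟩ := hsum x hx
    exact Submodule.mem_sup.2 ⟨a, Submodule.subset_span ha, x - a, hxa, add_sub_cancel a x⟩
  refine ⟨M₀, P₁, hM₀le, hfg0, hGM₀, ⟨hdisj, hcod⟩, fun hnil h0 => ?_, fun {τ'} hτ' F hFG => ?_⟩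
  · obtain ⟨n, hn⟩ := hunif 1
    refine hnil n (latImg_le_iff.2 fun x hx => hn n le_rfl x ⟨hx, ?_⟩)
    obtain ⟨a, ha, hxa⟩ := hsum x hx
    rw [h0, Submodule.mem_bot] at ha
    rwa [ha, sub_zero] at hxa
  · have hFG' : ∀ n x, F ((⇑G)^[n] x) = (⇑G)^[n] (F x) := fun n => by
      induction n with
      | zero => exact fun _ => rfl
      | succ n ih => intro x; rw [Function.iterate_succ_apply, ih, hFG]; rfl
    obtain ⟨c, hc⟩ := exists_pPow_le (latImg_fg hτ' F 1 hM.fg) hM
    have hcF : ∀ x ∈ M, (p : K(p, k)) ^ (c : ℤ) • F x ∈ M := fun x hx =>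
      hc (pz_smul_mem_pPow (Submodule.subset_span ⟨x, hx, rfl⟩))
    constructor
    · intro x hx
      induction hx using Submodule.span_induction with
      | mem y hy =>
        have : (p : K(p, k)) ^ (c : ℤ) • F y ∈ M₀ := by
          refine (Submodule.mem_iInf _).2 fun n => ?_
          obtain ⟨z, hz, e⟩ := (mem_latImg hτ).1 ((Submodule.mem_iInf _).1 hy n)
          refine (mem_latImg hτ).2 ⟨_, hcF z hz, ?_⟩
          rw [iterate_pz_smul hτ, ← hFG', e]
        have h2 := Submodule.smul_mem (Submodule.span K(p, k) (M₀ : Set N)) ((p : K(p, k)) ^ (-(c : ℤ))) (Submodule.subset_span this)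
        rwa [smul_smul, ← zpow_add₀ p_ne, neg_add_cancel, zpow_zero, one_smul] at h2
      | zero => rw [map_zero]; exact zero_mem _
      | add y z _ _ hy hz => rw [map_add]; exact add_mem hy hz
      | smul t y _ hy => rw [map_smulₛₗ]; exact Submodule.smul_mem _ _ hy
    · intro x hx j
      obtain ⟨n₀, hn₀⟩ := hx (j + c)
      refine ⟨n₀, fun n hn => ?_⟩
      have h1 := hn₀ n hn
      rw [mem_pPow] at h1
      have h2 := hcF _ h1
      rw [map_smulₛₗ, hτ'.map_pz, hFG' n, smul_smul, ← zpow_add₀ p_ne] at h2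
      rw [mem_pPow]
      convert h2 using 3
      ring

theorem exists_split [Module.Finite K(p, k) N] [Nontrivial N] (hτ : Tw τ) {F : N →ₛₗ[τ] N} (hF : Function.Bijective F) :
    ∃ (μ : ℚ) (P₀ P₁ : Submodule K(p, k) N), IsCompl P₀ P₁ ∧ P₀ ≠ ⊥ ∧ (∀ x ∈ P₀, F x ∈ P₀) ∧
      (∀ x ∈ P₁, F x ∈ P₁) ∧ IsoOn F μ P₀ := by
  obtain ⟨lam, hlam⟩ := isFirstSlope_of_exists hτ hF
  obtain ⟨r, s, M, hs, -, hlr, hM, hord⟩ := exists_rational hτ hF.2 (Module.finBasis K(p, k) N) hlam
  have hGb : Function.Bijective (twist F (-r) s) :=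
    ⟨fun x y hxy => hF.1.iterate s (smul_right_injective N (pz_ne (p := p) (k := k) (-r)) hxy), twist_surjective hF.2 _ _⟩
  have hGM : Isoc.latImg (twist F (-r) s) 1 M ≤ M := by
    rw [latImg_twist hτ, mul_one, Nat.cast_one, mul_one]
    refine (pPow_mono _ hord.1).trans ?_
    rw [pPow_pPow, neg_add_cancel, pPow_zero]
  obtain ⟨M₀, P₁, -, hfg, hfix, hcompl, hne, hstab⟩ := fitting (hτ.pow s) hGb hM hGM
  have hcomm : ∀ x, F (twist F (-r) s x) = twist F (-r) s (F x) := fun x => by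
    change F ((p : K(p, k)) ^ (-r) • (⇑F)^[s] x) = (p : K(p, k)) ^ (-r) • (⇑F)^[s] (F x)
    rw [map_smulₛₗ, hτ.map_pz, ← Function.iterate_succ_apply' (⇑F), Function.iterate_succ_apply]
  obtain ⟨hs0, hs1⟩ := hstab hτ F hcomm
  have hM₀ : M₀ ≠ ⊥ := by
    refine hne fun n hn => ?_
    have h1 := div_le_of_latImg_le (hτ.pow s) hGb.2 (isFirstSlope_twist hτ hF.2 hlam (-r) s) hM hn
    rw [hlr, mul_div_cancel₀ _ (by exact_mod_cast hs.ne')] at h1
    push_cast at h1
    simp at h1
    linarith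
  refine ⟨(r : ℚ) / s, _, P₁, hcompl, ?_, hs0, hs1, M₀, hfg, rfl, r, s, hs, rfl, ?_⟩
  · rw [Ne, Submodule.span_eq_bot]
    intro h
    exact hM₀ ((Submodule.eq_bot_iff _).2 h)
  · rw [latImg_twist hτ, mul_one, Nat.cast_one, mul_one] at hfix
    have := congrArg (Isoc.pPow r) hfix
    rwa [pPow_pPow, add_neg_cancel, pPow_zero] at this

theorem le_iSup_slopePart (hτ : Tw τ) {F : N →ₛₗ[τ] N} (hF : Function.Injective F) [Module.Finite K(p, k) N]
    (n : ℕ) : ∀ P : Submodule K(p, k) N, (∀ x ∈ P, F x ∈ P) → Module.finrank K(p, k) P = n →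
      P ≤ ⨆ μ, Isoc.slopePart F μ := by
  induction n using Nat.strong_induction_on with
  | _ n ih =>
    intro P hP hn
    rcases subsingleton_or_nontrivial P with hsub | hnt
    · intro x hx
      rw [show x = 0 from congrArg Subtype.val (Subsingleton.elim (⟨x, hx⟩ : P) 0)]
      exact zero_mem _
    · obtain ⟨μ, P₀, P₁, hc, hne, h0, h1, hiso⟩ := exists_split hτ (restrict_bijective hτ hF hP)
      have hmap := hiso.map hτ (F' := F) P.subtype h0 (fun _ _ => rfl)
      have hst : ∀ Q : Submodule K(p, k) P, (∀ x ∈ Q, F.restrict hP x ∈ Q) → ∀ x ∈ Q.map P.subtype, F x ∈ Q.map P.subtype := by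
        rintro Q hQ _ ⟨x, hx, rfl⟩
        exact ⟨_, hQ x hx, rfl⟩
      have hle0 : P₀.map P.subtype ≤ ⨆ μ, Isoc.slopePart F μ :=
        ((slopePart_spec hτ F μ).2.2 _ (hst P₀ h0) hmap).trans (le_iSup (fun μ => Isoc.slopePart F μ) μ)
      have hlt : Module.finrank K(p, k) (P₁.map P.subtype) < n := by
        rw [Submodule.finrank_map_subtype_eq, ← hn]
        refine Submodule.finrank_lt ?_
        rintro rfl
        exact hne (disjoint_top.1 hc.disjoint)
      have hle1 := ih _ hlt _ (hst P₁ h1) rfl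
      rw [← Submodule.map_subtype_top P, ← hc.sup_eq_top, Submodule.map_sup]
      exact sup_le hle0 hle1

theorem isInternal_slopePart (hτ : Tw τ) {F : N →ₛₗ[τ] N} (hF : Function.Injective F) [Module.Finite K(p, k) N] :
    DirectSum.IsInternal (fun μ : ℚ => Isoc.slopePart F μ) :=
  DirectSum.isInternal_submodule_of_iSupIndep_of_iSup_eq_top (iSupIndep_slopePart hτ hF)
    (eq_top_iff.2 (le_iSup_slopePart hτ hF _ ⊤ (fun _ _ => trivial) rfl))

theorem finsum_mul_newtonMult (hτ : Tw τ) {F : N →ₛₗ[τ] N} (hF : Function.Bijective F) {h : ℕ}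
    (b : Module.Basis (Fin h) K(p, k) N) {d : ℤ} (hd : Isoc.IsOrdP (Isoc.detCoeff b F) d) :
    ∑ᶠ μ : ℚ, μ * (Isoc.newtonMult F μ : ℚ) = d := by
  classical
  haveI : Module.Finite K(p, k) N := Module.Finite.of_basis b
  have hint := isInternal_slopePart hτ hF.1
  letI : Fintype {μ : ℚ // Isoc.slopePart F μ ≠ ⊥} := (iSupIndep_slopePart hτ hF.1).fintypeNeBotOfFiniteDimensional
  set T := {μ : ℚ // Isoc.slopePart F μ ≠ ⊥}
  have hint' : DirectSum.IsInternal fun μ : T => Isoc.slopePart F μ.1 := by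
    refine DirectSum.isInternal_submodule_of_iSupIndep_of_iSup_eq_top
      ((iSupIndep_slopePart hτ hF.1).comp Subtype.val_injective) ?_
    rw [eq_top_iff, ← hint.submodule_iSup_eq_top]
    refine iSup_le fun μ => ?_
    by_cases hμ : Isoc.slopePart F μ = ⊥
    · rw [hμ]; exact bot_le
    · exact le_iSup (fun μ : T => Isoc.slopePart F μ.1) ⟨μ, hμ⟩
  let v : ∀ μ : T, Module.Basis (Fin (Isoc.newtonMult F μ.1)) K(p, k) (Isoc.slopePart F μ.1) :=
    fun μ => Module.finBasis K(p, k) _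
  let B := hint'.collectedBasis v
  have hcard : Fintype.card (Σ μ : T, Fin (Isoc.newtonMult F μ.1)) = h := by
    rw [← Module.finrank_eq_card_basis B, Module.finrank_eq_card_basis b, Fintype.card_fin]
  let e := Fintype.equivFinOfCardEq hcard
  have hd' := isOrdP_detCoeff_basis hτ b (B.reindex e) F hd
  have hst := fun μ : T => (slopePart_spec hτ F μ.1).1
  have hbij := fun μ : T => restrict_bijective hτ hF.1 (hst μ)
  choose dμ hdμ using fun μ : T => exists_isOrdP_detCoeff hτ (v μ) (F.restrict (hst μ)) (hbij μ).2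
  have hval : ∀ μ : T, μ.1 * (Isoc.newtonMult F μ.1 : ℚ) = dμ μ := by
    intro μ
    obtain ⟨M, hM, r, s, hs, hrs, he⟩ :=
      (restrict_isIsoclinic_iff hτ F (hst μ) μ.1).2 (slopePart_spec hτ F μ.1).2.1
    have hmul := eq_mul_of_latImg_eq (v μ) hτ (hdμ μ) hM he
    have hmul' : (r : ℚ) * (Isoc.newtonMult F μ.1 : ℚ) = s * dμ μ := by exact_mod_cast hmul
    have hs' : (s : ℚ) ≠ 0 := by exact_mod_cast hs.ne'
    conv_lhs => arg 1; rw [← hrs]
    rw [div_mul_eq_mul_div, hmul', mul_div_cancel_left₀ _ hs']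
  have hdet : Isoc.detCoeff (B.reindex e) F = ∏ μ : T, Isoc.detCoeff (v μ) (F.restrict (hst μ)) := by
    rw [detCoeff_eq]
    have hsub : mat (B.reindex e) F = (Matrix.of fun i j => B.repr (F (B j)) i).submatrix e.symm e.symm := by
      ext i j
      simp [mat]
    rw [hsub, Matrix.det_submatrix_equiv_self]
    have hblock : (Matrix.of fun i j => B.repr (F (B j)) i) =
        Matrix.blockDiagonal' fun μ : T => mat (v μ) (F.restrict (hst μ)) := by
      ext ⟨μ, i⟩ ⟨ν, j⟩
      have hmem : F (B ⟨ν, j⟩) ∈ Isoc.slopePart F ν.1 := hst ν _ (hint'.collectedBasis_mem v ⟨ν, j⟩)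
      rw [Matrix.of_apply]
      by_cases hμν : μ = ν
      · subst hμν
        rw [Matrix.blockDiagonal'_apply_eq]
        change B.repr _ _ = (v μ).repr _ _
        rw [DirectSum.IsInternal.collectedBasis_repr_of_mem hint' v hmem]
        congr 2
        exact Subtype.ext (by simp [B, DirectSum.IsInternal.collectedBasis_coe])
      · rw [Matrix.blockDiagonal'_apply_ne _ _ _ hμν]
        exact DirectSum.IsInternal.collectedBasis_repr_of_mem_ne hint' v (Ne.symm hμν) hmem
    rw [hblock, (Matrix.blockTriangular_blockDiagonal' _).det_fintype]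
    refine Finset.prod_congr rfl fun μ _ => ?_
    let ψ : Fin (Isoc.newtonMult F μ.1) ≃ {a : Σ ν : T, Fin (Isoc.newtonMult F ν.1) // a.1 = μ} :=
      { toFun := fun i => ⟨⟨μ, i⟩, rfl⟩
        invFun := fun a => a.2 ▸ a.1.2
        left_inv := fun i => rfl
        right_inv := fun ⟨⟨ν, i⟩, hν⟩ => by subst hν; rfl }
    rw [detCoeff_eq, ← Matrix.det_submatrix_equiv_self ψ]
    congr 1
    ext i j
    simp [Matrix.toSquareBlock_def, ψ, Matrix.blockDiagonal'_apply_eq]
  have hprod : ∀ S : Finset T, Isoc.IsOrdP (∏ μ ∈ S, Isoc.detCoeff (v μ) (F.restrict (hst μ))) (∑ μ ∈ S, dμ μ) := by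
    intro S
    induction S using Finset.induction_on with
    | empty => simpa using isOrdP_one
    | insert μ S hμ ih => rw [Finset.prod_insert hμ, Finset.sum_insert hμ]; exact isOrdP_mul (hdμ μ) ih
  have hdsum : d = ∑ μ : T, dμ μ := isOrdP_unique hd' (hdet ▸ hprod Finset.univ)
  rw [hdsum, Int.cast_sum, ← Finset.sum_congr rfl fun μ _ => hval μ]
  have hsupp : (Function.support fun μ : ℚ => μ * (Isoc.newtonMult F μ : ℚ)) ⊆
      ((Finset.univ : Finset T).map ⟨Subtype.val, Subtype.val_injective⟩ : Finset ℚ) := by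
    intro μ hμ
    simp only [Finset.coe_map, Function.Embedding.coeFn_mk, Finset.coe_univ, Set.image_univ, Subtype.range_coe_subtype]
    intro h0
    apply hμ
    change μ * (Isoc.newtonMult F μ : ℚ) = 0
    rw [Isoc.newtonMult, h0, finrank_bot]
    simp
  rw [finsum_eq_sum_of_support_subset _ hsupp, Finset.sum_map]
  rfl

end Groth.Misc12.Isoc
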