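import Groth.Agent.Misc12.Isoc.Basic
import Mathlib.LinearAlgebra.Matrix.NonsingularInverse
import Mathlib.LinearAlgebra.Matrix.Basis
import Mathlib.RingTheory.Localization.Integer

/-!
The order of the determinant of a semilinear map and its relation to lattices.
-/

set_option autoImplicit false
set_option linter.unusedSectionVars false

noncomputable section

open scoped Pointwise Isocrystal Matrix

universe u v

namespace Groth.Misc12.Isoc

variable {p : ℕ} [Fact p.Prime] {k : Type u} [Field k] [CharP k p]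

local notation "am" => algebraMap (WittVector p k) (FractionRing (WittVector p k))

theorem isOrdP_mul {c c' : K(p, k)} {r r' : ℤ} (h : Isoc.IsOrdP c r) (h' : Isoc.IsOrdP c' r') :
    Isoc.IsOrdP (c * c') (r + r') := by
  obtain ⟨u, rfl⟩ := h
  obtain ⟨u', rfl⟩ := h'
  exact ⟨u * u', by rw [zpow_add₀ p_ne, Units.val_mul, map_mul]; ring⟩

theorem isOrdP_one : Isoc.IsOrdP (1 : K(p, k)) 0 := ⟨1, by simp⟩

theorem isOrdP_pz (r : ℤ) : Isoc.IsOrdP ((p : K(p, k)) ^ r) r := ⟨1, by simp⟩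

theorem isOrdP_tw {τ : K(p, k) →+* K(p, k)} (hτ : Tw τ) {c : K(p, k)} {r : ℤ} (h : Isoc.IsOrdP c r) :
    Isoc.IsOrdP (τ c) r := by
  obtain ⟨σ, hσ⟩ := hτ
  obtain ⟨u, rfl⟩ := h
  exact ⟨Units.map σ.toRingHom.toMonoidHom u, by rw [map_mul, hσ, map_zpow₀, map_natCast]; rfl⟩

theorem isOrdP_ne_zero {c : K(p, k)} {r : ℤ} (h : Isoc.IsOrdP c r) : c ≠ 0 := by
  obtain ⟨u, rfl⟩ := h
  exact mul_ne_zero (pz_ne r) (u.isUnit.map am).ne_zero

/-- `ord c ≥ r` in the form `c ∈ p^r W`. -/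
def GeP (c : K(p, k)) (r : ℤ) : Prop := ∃ w : WittVector p k, c = (p : K(p, k)) ^ r * am w

theorem geP_isOrdP {c : K(p, k)} {r d : ℤ} (h : GeP c r) (hd : Isoc.IsOrdP c d) : r ≤ d := by
  obtain ⟨w, rfl⟩ := h
  obtain ⟨u, hu⟩ := hd
  by_contra hlt
  obtain ⟨n, hn0, hn⟩ : ∃ n : ℕ, n ≠ 0 ∧ r = (n : ℤ) + d := ⟨(r - d).toNat, by omega, by omega⟩
  have e : am ((p : WittVector p k) ^ n * w) = am (u : WittVector p k) := by
    apply mul_left_cancel₀ (pz_ne (p := p) (k := k) d)
    rw [map_mul, algebraMap_p_pow, ← hu, hn, zpow_add₀ p_ne, ← mul_assoc, mul_comm ((p : K(p, k)) ^ d)]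
  have hw : (p : WittVector p k) ^ n * w = (u : WittVector p k) := IsFractionRing.injective (WittVector p k) K(p, k) e
  have h0 := congrArg (WittVector.constantCoeff (p := p) (R := k)) hw
  rw [map_mul, map_pow, map_natCast, CharP.cast_eq_zero, zero_pow hn0, zero_mul] at h0
  exact (u.isUnit.map (WittVector.constantCoeff (p := p) (R := k))).ne_zero h0.symm

theorem geP_mul {c c' : K(p, k)} {r r' : ℤ} (h : GeP c r) (h' : GeP c' r') : GeP (c * c') (r + r') := by
  obtain ⟨w, rfl⟩ := h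
  obtain ⟨w', rfl⟩ := h'
  exact ⟨w * w', by rw [zpow_add₀ p_ne, map_mul]; ring⟩

theorem isOrdP_unique {c : K(p, k)} {r r' : ℤ} (h : Isoc.IsOrdP c r) (h' : Isoc.IsOrdP c r') : r = r' := by
  obtain ⟨u, hu⟩ := h
  obtain ⟨u', hu'⟩ := h'
  exact le_antisymm (geP_isOrdP (c := c) ⟨(u : WittVector p k), hu⟩ ⟨u', hu'⟩)
    (geP_isOrdP (c := c) ⟨(u' : WittVector p k), hu'⟩ ⟨u, hu⟩)

theorem exists_isOrdP [PerfectRing k p] {c : K(p, k)} (hc : c ≠ 0) : ∃ r, Isoc.IsOrdP c r := by
  obtain ⟨a, b, hb, rfl⟩ := IsFractionRing.div_surjective (A := WittVector p k) c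
  have ha : a ≠ 0 := by rintro rfl; simp at hc
  obtain ⟨n, w, hw⟩ := IsDiscreteValuationRing.eq_unit_mul_pow_irreducible ha (WittVector.irreducible p)
  obtain ⟨n', w', hw'⟩ := IsDiscreteValuationRing.eq_unit_mul_pow_irreducible
    (nonZeroDivisors.ne_zero hb) (WittVector.irreducible p)
  refine ⟨n - n', w * w'⁻¹, ?_⟩
  rw [hw, hw', Units.val_mul, map_mul, map_mul, map_mul, algebraMap_p_pow, algebraMap_p_pow,
    zpow_sub₀ p_ne, map_units_inv]
  field_simp [pz_ne (p := p) (k := k) (n' : ℤ), (w'.isUnit.map am).ne_zero]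

theorem isOrdP_of_mul_eq [PerfectRing k p] {c c' : K(p, k)} {r : ℤ} (hc' : c' ≠ 0) (h : Isoc.IsOrdP (c * c') r) :
    ∃ a b, Isoc.IsOrdP c a ∧ Isoc.IsOrdP c' b ∧ a + b = r := by
  have hc : c ≠ 0 := left_ne_zero_of_mul (isOrdP_ne_zero h)
  obtain ⟨a, ha⟩ := exists_isOrdP hc
  obtain ⟨b, hb⟩ := exists_isOrdP hc'
  exact ⟨a, b, ha, hb, isOrdP_unique (isOrdP_mul ha hb) h⟩

section mat

variable {N : Type v} [AddCommGroup N] [Module K(p, k) N]
variable {τ τ' : K(p, k) →+* K(p, k)} {h : ℕ}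

/-- The matrix of a semilinear map. -/
def mat (b : Module.Basis (Fin h) K(p, k) N) (f : N → N) : Matrix (Fin h) (Fin h) K(p, k) :=
  Matrix.of fun i j => b.repr (f (b j)) i

theorem detCoeff_eq (b : Module.Basis (Fin h) K(p, k) N) (F : N →ₛₗ[τ] N) :
    Isoc.detCoeff b F = (mat b F).det := rfl

theorem repr_semilinear (b b' : Module.Basis (Fin h) K(p, k) N) (F : N →ₛₗ[τ] N) (x : N) (i : Fin h) :
    b'.repr (F x) i = ∑ j, τ (b.repr x j) * b'.repr (F (b j)) i := by
  conv_lhs => rw [← b.sum_repr x]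
  rw [map_sum, map_sum, Finset.sum_apply']
  refine Finset.sum_congr rfl fun j _ => ?_
  rw [map_smulₛₗ, map_smul, Finsupp.smul_apply, smul_eq_mul]

theorem mat_comp (b : Module.Basis (Fin h) K(p, k) N) (F : N →ₛₗ[τ] N) (g : N → N) :
    mat b (⇑F ∘ g) = mat b F * (mat b g).map τ := by
  ext i j
  rw [Matrix.mul_apply]
  change b.repr (F (g (b j))) i = _
  rw [repr_semilinear b b F]
  exact Finset.sum_congr rfl fun l _ => mul_comm _ _

theorem mat_id (b : Module.Basis (Fin h) K(p, k) N) : mat b id = 1 := by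
  ext i j
  simp [mat, Matrix.one_apply, Finsupp.single_apply, eq_comm]

theorem isOrdP_det_iterate (hτ : Tw τ) (b : Module.Basis (Fin h) K(p, k) N) (F : N →ₛₗ[τ] N) {d : ℤ}
    (hd : Isoc.IsOrdP (Isoc.detCoeff b F) d) (s : ℕ) :
    Isoc.IsOrdP (mat b (⇑F)^[s]).det ((s : ℤ) * d) := by
  induction s with
  | zero => simpa [mat_id] using isOrdP_one
  | succ s ih =>
    rw [Function.iterate_succ', mat_comp, Matrix.det_mul, ← RingHom.mapMatrix_apply, ← RingHom.map_det]
    have := isOrdP_mul hd (isOrdP_tw hτ ih)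
    rw [show ((s + 1 : ℕ) : ℤ) * d = d + (s : ℤ) * d by push_cast; ring]
    exact this

theorem mat_change (b b' : Module.Basis (Fin h) K(p, k) N) (F : N →ₛₗ[τ] N) :
    b.toMatrix b' * mat b' F = mat b F * (b.toMatrix b').map τ := by
  ext i j
  rw [Matrix.mul_apply, Matrix.mul_apply]
  calc ∑ l, b.toMatrix b' i l * mat b' F l j = b.repr (F (b' j)) i := by
        conv_rhs => rw [← b'.sum_repr (F (b' j)), map_sum, Finset.sum_apply']
        refine Finset.sum_congr rfl fun l _ => ?_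
        rw [map_smul, Finsupp.smul_apply, smul_eq_mul, mul_comm]
        rfl
    _ = _ := by
        rw [repr_semilinear b b F]
        exact Finset.sum_congr rfl fun l _ => mul_comm _ _

theorem isOrdP_detCoeff_basis [PerfectRing k p] (hτ : Tw τ) (b b' : Module.Basis (Fin h) K(p, k) N)
    (F : N →ₛₗ[τ] N) {d : ℤ} (hd : Isoc.IsOrdP (Isoc.detCoeff b F) d) :
    Isoc.IsOrdP (Isoc.detCoeff b' F) d := by
  have hP : (b.toMatrix b').det ≠ 0 := by
    have h1 : b.toMatrix b' * b'.toMatrix b = 1 := b.toMatrix_mul_toMatrix_flip b'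
    intro h0
    have := congrArg Matrix.det h1
    rw [Matrix.det_mul, h0, zero_mul, Matrix.det_one] at this
    exact zero_ne_one this
  obtain ⟨e, he⟩ := exists_isOrdP hP
  have hmat := congrArg Matrix.det (mat_change b b' F)
  rw [Matrix.det_mul, Matrix.det_mul, ← RingHom.mapMatrix_apply, ← RingHom.map_det] at hmat
  have h2 := isOrdP_mul hd (isOrdP_tw hτ he)
  rw [detCoeff_eq, ← hmat, mul_comm] at h2
  obtain ⟨a, b'', ha, hb, hab⟩ := isOrdP_of_mul_eq hP h2
  have := isOrdP_unique hb he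
  rw [detCoeff_eq]
  convert ha using 1
  omega

theorem exists_isOrdP_detCoeff [PerfectRing k p] (hτ : Tw τ) (b : Module.Basis (Fin h) K(p, k) N) (F : N →ₛₗ[τ] N)
    (hF : Function.Surjective F) : ∃ d, Isoc.IsOrdP (Isoc.detCoeff b F) d := by
  refine exists_isOrdP fun h0 => ?_
  choose x hx using fun j => hF (b j)
  have : mat b F * (Matrix.of fun i j => τ (b.repr (x j) i)) = 1 := by
    ext i j
    rw [Matrix.mul_apply]
    have e := repr_semilinear b b F (x j) i
    rw [hx, b.repr_self] at e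
    rw [Matrix.one_apply]
    simp only [Finsupp.single_apply] at e
    refine Eq.trans ?_ ((e.symm.trans (if_congr ⟨Eq.symm, Eq.symm⟩ rfl rfl)))
    exact Finset.sum_congr rfl fun l _ => mul_comm _ _
  have e := congrArg Matrix.det this
  rw [Matrix.det_mul, ← detCoeff_eq, h0, zero_mul, Matrix.det_one] at e
  exact zero_ne_one e

end mat

section lat

variable {N : Type v} [AddCommGroup N] [Module (WittVector p k) N] [Module K(p, k) N]
  [IsScalarTower (WittVector p k) K(p, k) N]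
variable {τ : K(p, k) →+* K(p, k)} {h : ℕ}

/-- An `L`-basis of `N` generating the lattice `M` over `W`. -/
theorem exists_adapted [PerfectRing k p] (b : Module.Basis (Fin h) K(p, k) N) {M : Submodule (WittVector p k) N}
    (hM : M.IsLattice K(p, k)) :
    ∃ e : Module.Basis (Fin h) K(p, k) N,
      ∀ x : N, x ∈ M ↔ ∀ i, ∃ w : WittVector p k, e.repr x i = am w := by
  haveI := hM
  haveI : Module.Finite K(p, k) N := Module.Finite.of_basis b
  have hfr : Module.finrank (WittVector p k) M = h := by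
    rw [Module.finrank, Submodule.IsLattice.rank' K(p, k) M, ← Module.finrank, Module.finrank_eq_card_basis b, Fintype.card_fin]
  let e₀ : Module.Basis (Fin h) (WittVector p k) M := Module.finBasisOfFinrankEq _ _ hfr
  refine ⟨e₀.extendOfIsLattice K(p, k), fun x => ⟨fun hx i => ⟨e₀.repr ⟨x, hx⟩ i, ?_⟩, fun hx => ?_⟩⟩
  · have hx' : x = ∑ j, am (e₀.repr ⟨x, hx⟩ j) • e₀.extendOfIsLattice K(p, k) j := by
      simp only [Module.Basis.extendOfIsLattice_apply, ← smulW_eq]
      have := congrArg Subtype.val (e₀.sum_repr ⟨x, hx⟩)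
      simp only [Submodule.coe_sum, Submodule.coe_smul] at this
      exact this.symm
    conv_lhs => rw [hx', Module.Basis.repr_sum_self]
  · choose w hw using hx
    rw [← (e₀.extendOfIsLattice K(p, k)).sum_repr x]
    refine M.sum_mem fun j _ => ?_
    rw [hw, ← smulW_eq, Module.Basis.extendOfIsLattice_apply]
    exact M.smul_mem _ (e₀ j).2

theorem adapted_mem {M : Submodule (WittVector p k) N} {e : Module.Basis (Fin h) K(p, k) N}
    (he : ∀ x : N, x ∈ M ↔ ∀ i, ∃ w : WittVector p k, e.repr x i = am w) (j : Fin h) : e j ∈ M := by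
  rw [he]
  intro i
  classical
  exact ⟨if j = i then 1 else 0, by rw [e.repr_self, Finsupp.single_apply]; split_ifs <;> simp⟩

theorem adapted_mem_pPow {M : Submodule (WittVector p k) N} {e : Module.Basis (Fin h) K(p, k) N}
    (he : ∀ x : N, x ∈ M ↔ ∀ i, ∃ w : WittVector p k, e.repr x i = am w) (r : ℤ) (x : N) :
    x ∈ Isoc.pPow r M ↔ ∀ i, GeP (e.repr x i) r := by
  rw [mem_pPow, he]
  refine forall_congr' fun i => exists_congr fun w => ?_
  rw [map_smul, Finsupp.smul_apply, smul_eq_mul, zpow_neg, inv_mul_eq_iff_eq_mul₀ (pz_ne r)]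

theorem geP_det {r : ℤ} {C : Matrix (Fin h) (Fin h) K(p, k)} (hC : ∀ i j, GeP (C i j) r) :
    GeP C.det ((h : ℤ) * r) := by
  choose w hw using hC
  have : C = (p : K(p, k)) ^ r • (Matrix.of w).map am := by ext i j; simp [hw]
  refine ⟨(Matrix.of w).det, ?_⟩
  rw [this, Matrix.det_smul, Fintype.card_fin, RingHom.map_det, mul_comm (h : ℤ), zpow_mul, zpow_natCast]
  rfl

variable (b : Module.Basis (Fin h) K(p, k) N) {F : N →ₛₗ[τ] N} {d : ℤ}

theorem le_mul_of_latImg_le [PerfectRing k p] (hτ : Tw τ) (hd : Isoc.IsOrdP (Isoc.detCoeff b F) d)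
    {M : Submodule (WittVector p k) N} (hM : M.IsLattice K(p, k)) {s : ℕ} {r : ℤ}
    (hle : Isoc.latImg F s M ≤ Isoc.pPow r M) : r * h ≤ s * d := by
  obtain ⟨e, he⟩ := exists_adapted b hM
  have hC : ∀ i j, GeP (mat e (⇑F)^[s] i j) r := fun i j =>
    (adapted_mem_pPow he r _).1 (latImg_le_iff.1 hle _ (adapted_mem he j)) i
  rw [mul_comm r]
  exact geP_isOrdP (geP_det hC) (isOrdP_det_iterate hτ e F (isOrdP_detCoeff_basis hτ b e F hd) s)

theorem mul_le_of_pPow_le [PerfectRing k p] (hτ : Tw τ) (hd : Isoc.IsOrdP (Isoc.detCoeff b F) d)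
    {M : Submodule (WittVector p k) N} (hM : M.IsLattice K(p, k)) {s : ℕ} {r : ℤ}
    (hle : Isoc.pPow r M ≤ Isoc.latImg F s M) : (s : ℤ) * d ≤ r * h := by
  obtain ⟨e, he⟩ := exists_adapted b hM
  obtain ⟨σ, hσ⟩ := hτ.pow s
  choose x hx hxe using fun j => (mem_latImg hτ).1 (hle (pz_smul_mem_pPow (r := r) (adapted_mem he j)))
  choose w hw using fun j => (he (x j)).1 (hx j)
  have key : mat e (⇑F)^[s] * (Matrix.of fun i j => σ (w j i)).map am = (p : K(p, k)) ^ r • (1 : Matrix (Fin h) (Fin h) K(p, k)) := by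
    ext i j
    rw [Matrix.mul_apply, Matrix.smul_apply, smul_eq_mul]
    have e1 : e.repr ((⇑F)^[s] (x j)) i = ∑ l, (τ ^ s) (e.repr (x j) l) * e.repr ((⇑F)^[s] (e l)) i :=
      repr_semilinear e e (Isoc.iter F s) (x j) i
    rw [hxe, map_smul, e.repr_self] at e1
    simp only [Finsupp.smul_apply, smul_eq_mul, Finsupp.single_apply] at e1
    rw [Matrix.one_apply, if_congr (⟨Eq.symm, Eq.symm⟩ : i = j ↔ j = i) rfl rfl, e1]
    refine Finset.sum_congr rfl fun l _ => ?_
    simp only [Matrix.map_apply, Matrix.of_apply, mat]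
    rw [mul_comm, hw, hσ]
  have hdet := congrArg Matrix.det key
  rw [Matrix.det_mul, Matrix.det_smul, Matrix.det_one, mul_one, Fintype.card_fin, ← RingHom.mapMatrix_apply,
    ← RingHom.map_det, ← zpow_natCast, ← zpow_mul] at hdet
  have h1 := isOrdP_det_iterate hτ e F (isOrdP_detCoeff_basis hτ b e F hd) s
  refine geP_isOrdP (c := (p : K(p, k)) ^ (r * (h : ℤ))) (r := (s : ℤ) * d) ?_ (isOrdP_pz _)
  rw [← hdet, ← add_zero ((s : ℤ) * d)]
  refine geP_mul ?_ ⟨_, by simp; rfl⟩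
  obtain ⟨u, hu⟩ := h1
  exact ⟨u, hu⟩

theorem eq_mul_of_latImg_eq [PerfectRing k p] (hτ : Tw τ) (hd : Isoc.IsOrdP (Isoc.detCoeff b F) d)
    {M : Submodule (WittVector p k) N} (hM : M.IsLattice K(p, k)) {s : ℕ} {r : ℤ}
    (heq : Isoc.latImg F s M = Isoc.pPow r M) : r * h = s * d :=
  le_antisymm (le_mul_of_latImg_le b hτ hd hM heq.le) (mul_le_of_pPow_le b hτ hd hM heq.ge)

theorem latImg_eq_of_mul_eq [PerfectRing k p] (hτ : Tw τ) (hd : Isoc.IsOrdP (Isoc.detCoeff b F) d)
    {M : Submodule (WittVector p k) N} (hM : M.IsLattice K(p, k)) {s : ℕ} {r : ℤ}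
    (hle : Isoc.latImg F s M ≤ Isoc.pPow r M) (heq : r * h = s * d) :
    Isoc.latImg F s M = Isoc.pPow r M := by
  obtain ⟨e, he⟩ := exists_adapted b hM
  refine le_antisymm hle fun y hy => ?_
  choose U hU using fun i j =>
    ((adapted_mem_pPow he r _).1 (latImg_le_iff.1 hle _ (adapted_mem he j)) i : GeP (mat e (⇑F)^[s] i j) r)
  have hC : mat e (⇑F)^[s] = (p : K(p, k)) ^ r • (Matrix.of U).map am := by
    ext i j
    simp only [Matrix.smul_apply, Matrix.map_apply, Matrix.of_apply, smul_eq_mul]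
    exact hU i j
  have hu : IsUnit (Matrix.of U).det := by
    obtain ⟨u, hu⟩ := isOrdP_det_iterate hτ e F (isOrdP_detCoeff_basis hτ b e F hd) s
    rw [hC, Matrix.det_smul, Fintype.card_fin, ← RingHom.mapMatrix_apply, ← RingHom.map_det, ← zpow_natCast,
      ← zpow_mul, heq] at hu
    exact IsFractionRing.injective (WittVector p k) K(p, k) (mul_left_cancel₀ (pz_ne _) hu) ▸ u.isUnit
  choose w hw using (adapted_mem_pPow he r y).1 hy
  set c : Fin h → WittVector p k := (Matrix.of U)⁻¹ *ᵥ w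
  have hy' : y = ∑ j, c j • (⇑F)^[s] (e j) := by
    refine e.repr.injective (Finsupp.ext fun i => ?_)
    simp only [map_sum, Finset.sum_apply', smulW_eq (p := p) (k := k), map_smul, Finsupp.smul_apply, smul_eq_mul]
    have hc : Matrix.of U *ᵥ c = w := by
      rw [Matrix.mulVec_mulVec, Matrix.mul_nonsing_inv _ hu, Matrix.one_mulVec]
    rw [hw, ← congrFun hc i, Matrix.mulVec, dotProduct, map_sum, Finset.mul_sum]
    refine Finset.sum_congr rfl fun j _ => ?_
    rw [hU, map_mul, Matrix.of_apply]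
    ring
  rw [hy']
  exact Submodule.sum_mem _ fun j _ => Submodule.smul_mem _ _ (Submodule.subset_span ⟨e j, adapted_mem he j, rfl⟩)

end lat

end Groth.Misc12.Isoc
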