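import Groth.Agent.Misc12.Isoc.Decomp
import Mathlib.LinearAlgebra.Charpoly.BaseChange
import Mathlib.LinearAlgebra.Charpoly.ToMatrix
import Mathlib.LinearAlgebra.Eigenspace.Charpoly
import Mathlib.LinearAlgebra.Eigenspace.Minpoly
import Mathlib.RingTheory.IntegralClosure.IntegrallyClosed
import Mathlib.RingTheory.DedekindDomain.PID
import Mathlib.FieldTheory.IsAlgClosed.Basic

/-!
Newton slopes over a finite field are the valuations of the roots of the characteristic polynomial.
-/

set_option autoImplicit false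
set_option linter.unusedSectionVars false
set_option linter.style.haveILetI false

noncomputable section

open scoped Pointwise Isocrystal TensorProduct
open Polynomial

universe u v w

namespace Groth.Misc12.Isoc

variable {p : ℕ} [Fact p.Prime] {k : Type u} [Field k] [CharP k p]
variable {N : Type v} [AddCommGroup N] [Module (WittVector p k) N] [Module K(p, k) N]
  [IsScalarTower (WittVector p k) K(p, k) N]
variable {Ω : Type w} [Field Ω] [Algebra (WittVector p k) Ω] [Algebra K(p, k) Ω]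
  [IsScalarTower (WittVector p k) K(p, k) Ω]
variable {τ : K(p, k) →+* K(p, k)}

local notation "am" => algebraMap (WittVector p k) (FractionRing (WittVector p k))

theorem isIntegral_of_eigen [Module.Finite K(p, k) N] (g : Module.End K(p, k) N) {M : Submodule (WittVector p k) N}
    (hM : M.IsLattice K(p, k)) (hg : ∀ x ∈ M, g x ∈ M) {v : Ω ⊗[K(p, k)] N} (hv0 : v ≠ 0) {β : Ω}
    (hv : g.baseChange Ω v = β • v) : IsIntegral (WittVector p k) β := by
  haveI : Module.Finite (WittVector p k) M := Module.Finite.iff_fg.2 hM.fg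
  let gM : Module.End (WittVector p k) M := (LinearMap.restrictScalars (WittVector p k) g).restrict hg
  obtain ⟨Q, hQm, hQ⟩ := LinearMap.exists_monic_and_aeval_eq_zero (WittVector p k) gM
  have key : ∀ (P : (WittVector p k)[X]) (x : M), (aeval g (P.map am)) (x : N) = ((aeval gM P) x : N) := by
    intro P x
    induction P using Polynomial.induction_on' with
    | add P Q hP hQ =>
      rw [Polynomial.map_add, map_add, map_add, LinearMap.add_apply, LinearMap.add_apply, Submodule.coe_add, hP, hQ]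
    | monomial n c =>
      rw [map_monomial, aeval_monomial, aeval_monomial, Module.End.mul_apply, Module.End.mul_apply,
        Module.algebraMap_end_apply, Module.algebraMap_end_apply, Submodule.coe_smul, smulW_eq]
      congr 1
      clear c
      induction n generalizing x with
      | zero => rfl
      | succ n ih =>
        rw [pow_succ, pow_succ, Module.End.mul_apply, Module.End.mul_apply]
        exact ih (gM x)
  have hz : aeval g (Q.map am) = 0 := LinearMap.ext_on hM.span_eq_top fun x hx => by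
    rw [key Q ⟨x, hx⟩, hQ, LinearMap.zero_apply, LinearMap.zero_apply, Submodule.coe_zero]
  have hz' : aeval (g.baseChange Ω) (Q.map am) = 0 := by
    change aeval (Module.End.baseChangeHom K(p, k) Ω N g) (Q.map am) = 0
    rw [aeval_algHom_apply, hz, map_zero]
  have hz'' : aeval (g.baseChange Ω) (Q.map (algebraMap (WittVector p k) Ω)) = 0 := by
    rw [IsScalarTower.algebraMap_eq (WittVector p k) K(p, k) Ω, ← map_map, aeval_map_algebraMap]
    exact hz'
  have h := Module.End.aeval_apply_of_hasEigenvector (f := g.baseChange Ω)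
    (p := Q.map (algebraMap (WittVector p k) Ω)) (⟨Module.End.mem_eigenspace_iff.2 hv, hv0⟩ : Module.End.HasEigenvector _ β v)
  rw [hz'', LinearMap.zero_apply] at h
  have := (smul_eq_zero.1 h.symm).resolve_right hv0
  refine ⟨Q, hQm, ?_⟩
  rwa [eval_map] at this

/-- `α` has valuation `μ * m`. -/
def Ord (Ω : Type w) [Field Ω] [Algebra (WittVector p k) Ω] [Algebra K(p, k) Ω] (m : ℕ) (μ : ℚ) (α : Ω) : Prop :=
  IsIntegral (WittVector p k) (α ^ μ.den * (algebraMap K(p, k) Ω (p : K(p, k))) ^ (-(μ.num * (m : ℤ))))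
    ∧ IsIntegral (WittVector p k) (α ^ μ.den * (algebraMap K(p, k) Ω (p : K(p, k))) ^ (-(μ.num * (m : ℤ))))⁻¹

theorem pΩ_ne : algebraMap K(p, k) Ω (p : K(p, k)) ≠ 0 := by
  rw [_root_.map_ne_zero]; exact p_ne

theorem isIntegral_pz [PerfectRing k p] {e : ℤ}
    (h : IsIntegral (WittVector p k) ((algebraMap K(p, k) Ω (p : K(p, k))) ^ e)) : 0 ≤ e := by
  rw [← map_zpow₀, isIntegral_algebraMap_iff (algebraMap K(p, k) Ω).injective] at h
  obtain ⟨w, hw⟩ := IsIntegrallyClosed.isIntegral_iff.1 h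
  by_contra hneg
  obtain ⟨n, hn⟩ : ∃ n : ℕ, e = -((n + 1 : ℕ) : ℤ) := ⟨(-e - 1).toNat, by push_cast; omega⟩
  apply (WittVector.irreducible p (k := k)).not_isUnit
  have h1 : (p : WittVector p k) ^ (n + 1) * w = 1 := IsFractionRing.injective (WittVector p k) K(p, k) (by
    rw [map_mul, algebraMap_p_pow, hw, hn, ← zpow_add₀ p_ne, add_neg_cancel, zpow_zero, map_one])
  exact IsUnit.of_mul_eq_one (a := (p : WittVector p k)) ((p : WittVector p k) ^ n * w)
    (by rw [← mul_assoc, ← pow_succ', h1])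

theorem ord_unique [PerfectRing k p] {m : ℕ} (hm : 0 < m) {μ ν : ℚ} {α : Ω} (h₁ : Ord (p := p) (k := k) Ω m μ α) (h₂ : Ord (p := p) (k := k) Ω m ν α)
    (hα : α ≠ 0) : μ = ν := by
  set P := algebraMap K(p, k) Ω (p : K(p, k))
  have hP : P ≠ 0 := pΩ_ne
  set u := α ^ μ.den * P ^ (-(μ.num * (m : ℤ)))
  set v := α ^ ν.den * P ^ (-(ν.num * (m : ℤ)))
  have e : u ^ ν.den * (v ^ μ.den)⁻¹ = P ^ ((ν.num * μ.den - μ.num * ν.den) * (m : ℤ)) := by
    simp only [u, v]
    rw [mul_pow, mul_pow, mul_inv]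
    simp only [← zpow_natCast, ← zpow_mul, ← zpow_neg]
    rw [mul_mul_mul_comm, ← zpow_add₀ hα, ← zpow_add₀ hP]
    rw [show (μ.den : ℤ) * (ν.den : ℤ) + -((ν.den : ℤ) * (μ.den : ℤ)) = 0 by ring, zpow_zero, one_mul]
    congr 1
    ring
  have hpos := isIntegral_pz (e ▸ (h₁.1.pow ν.den).mul (inv_pow v μ.den ▸ h₂.2.pow μ.den))
  have e' : (u ^ ν.den)⁻¹ * v ^ μ.den = P ^ (-((ν.num * μ.den - μ.num * ν.den) * (m : ℤ))) := by
    rw [zpow_neg, ← e, mul_inv, inv_inv]
  have hneg := isIntegral_pz (e' ▸ (inv_pow u ν.den ▸ h₁.2.pow ν.den).mul (h₂.1.pow μ.den))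
  have h0 : (ν.num * μ.den - μ.num * ν.den) * (m : ℤ) = 0 := by omega
  rw [mul_eq_zero, or_iff_left (by exact_mod_cast hm.ne'), sub_eq_zero] at h0
  exact (Rat.eq_iff_mul_eq_mul.2 h0.symm)

theorem ord_of_isIsoclinic [PerfectRing k p] [IsAlgClosed Ω] (hτ : Tw τ) [Module.Finite K(p, k) N]
    (F : N →ₛₗ[τ] N) (hF : Function.Bijective F) (m : ℕ) (π : Module.End K(p, k) N) (hπ : ∀ x, π x = (⇑F)^[m] x)
    (μ : ℚ) (hμ : Isoc.IsIsoclinic F μ) {α : Ω} (hα : (π.charpoly.map (algebraMap K(p, k) Ω)).IsRoot α) :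
    Ord (p := p) (k := k) Ω m μ α ∧ α ≠ 0 := by
  obtain ⟨M, hM, r, s, hs, hrs, hMe⟩ := hμ
  have key : r * (μ.den : ℤ) = μ.num * s := by
    have h1 : (r : ℚ) / s = (μ.num : ℚ) / μ.den := by rw [hrs, Rat.num_div_den]
    rw [div_eq_div_iff (by exact_mod_cast hs.ne') (by exact_mod_cast μ.den_nz)] at h1
    exact_mod_cast h1
  have hdvd : (μ.den : ℤ) ∣ (s : ℤ) := by
    have hco : IsCoprime (μ.den : ℤ) μ.num :=
      (Int.isCoprime_iff_gcd_eq_one.2 (by rw [Int.gcd_eq_natAbs]; simpa using μ.reduced)).symm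
    exact hco.dvd_of_dvd_mul_left ⟨r, by rw [← key]; ring⟩
  obtain ⟨t, rfl⟩ := Int.natCast_dvd_natCast.1 hdvd
  have ht : r = μ.num * t := by
    apply mul_right_cancel₀ (show (μ.den : ℤ) ≠ 0 by exact_mod_cast μ.den_nz)
    rw [key]; push_cast; ring
  have ht0 : 0 < t := Nat.pos_of_mul_pos_left hs
  set s := μ.den * t
  have hpow : ∀ j x, (π ^ j) x = (⇑F)^[m * j] x := by
    intro j x
    induction j with
    | zero => rfl
    | succ j ih => rw [pow_succ', Module.End.mul_apply, ih, hπ, ← Function.iterate_add_apply, mul_add, mul_one, add_comm]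
  have hE := iso_pow hτ hMe m
  set g : Module.End K(p, k) N := (p : K(p, k)) ^ (-((m : ℤ) * r)) • π ^ s
  have hgM : ∀ x ∈ M, g x ∈ M := by
    intro x hx
    have h1 : (⇑F)^[m * s] x ∈ Isoc.pPow ((m : ℤ) * r) M := hE ▸ (mem_latImg hτ).2 ⟨x, hx, rfl⟩
    rw [mem_pPow] at h1
    change (p : K(p, k)) ^ _ • (π ^ s) x ∈ M
    rwa [hpow]
  have hgi : Function.Injective g := fun x y hxy => by
    have h1 := smul_right_injective N (pz_ne (p := p) (k := k) (-((m : ℤ) * r))) hxy
    rw [hpow, hpow] at h1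
    exact hF.1.iterate _ h1
  let ge := LinearEquiv.ofInjectiveEndo g hgi
  let g' : Module.End K(p, k) N := ge.symm.toLinearMap
  have hg'g : g' * g = 1 := LinearMap.ext fun x => ge.symm_apply_apply x
  have hg'M : ∀ y ∈ M, g' y ∈ M := by
    intro y hy
    obtain ⟨x, hx, hxe⟩ := (mem_latImg hτ).1 (hE.ge (pz_smul_mem_pPow (r := (m : ℤ) * r) hy))
    have : g x = y := by
      change (p : K(p, k)) ^ _ • (π ^ s) x = y
      rw [hpow, hxe, smul_smul, ← zpow_add₀ p_ne, neg_add_cancel, zpow_zero, one_smul]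
    rw [← this]
    change (g' * g) x ∈ M
    rwa [hg'g]
  rw [← LinearMap.charpoly_baseChange, ← Module.End.hasEigenvalue_iff_isRoot_charpoly] at hα
  obtain ⟨v, hv⟩ := hα.exists_hasEigenvector
  set P := algebraMap K(p, k) Ω (p : K(p, k))
  have hgv : g.baseChange Ω v = (α ^ s * P ^ (-((m : ℤ) * r))) • v := by
    change Module.End.baseChangeHom K(p, k) Ω N ((p : K(p, k)) ^ (-((m : ℤ) * r)) • π ^ s) v = _
    rw [map_smul, map_pow, LinearMap.smul_apply]
    change _ • ((π.baseChange Ω) ^ s) v = _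
    rw [hv.pow_apply, ← algebraMap_smul Ω ((p : K(p, k)) ^ (-((m : ℤ) * r))), map_zpow₀, smul_smul, mul_comm]
  have hβ0 : α ^ s * P ^ (-((m : ℤ) * r)) ≠ 0 := by
    intro h0
    rw [h0, zero_smul] at hgv
    have := congrArg (fun f => f v) (congrArg (Module.End.baseChangeHom K(p, k) Ω N) hg'g)
    simp only [map_mul, map_one, Module.End.mul_apply, Module.End.one_apply] at this
    change g'.baseChange Ω (g.baseChange Ω v) = v at this
    rw [hgv, map_zero] at this
    exact hv.2 this.symm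
  have hg'v : g'.baseChange Ω v = (α ^ s * P ^ (-((m : ℤ) * r)))⁻¹ • v := by
    have := congrArg (fun f => f v) (congrArg (Module.End.baseChangeHom K(p, k) Ω N) hg'g)
    simp only [map_mul, map_one, Module.End.mul_apply, Module.End.one_apply] at this
    change g'.baseChange Ω (g.baseChange Ω v) = v at this
    rw [hgv, map_smul] at this
    rw [eq_inv_smul_iff₀ hβ0, this]
  have hα0 : α ≠ 0 := by
    rintro rfl
    exact hβ0 (by rw [zero_pow hs.ne', zero_mul])
  have hw : (α ^ μ.den * P ^ (-(μ.num * (m : ℤ)))) ^ t = α ^ s * P ^ (-((m : ℤ) * r)) := by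
    rw [mul_pow, ← pow_mul, ← zpow_natCast (P ^ _), ← zpow_mul, ht]
    congr 2
    ring
  refine ⟨⟨IsIntegral.of_pow ht0 ?_, IsIntegral.of_pow ht0 ?_⟩, hα0⟩
  · rw [hw]
    exact isIntegral_of_eigen g hM hgM hv.2 hgv
  · rw [inv_pow, hw]
    exact isIntegral_of_eigen g' hM hg'M hv.2 hg'v

theorem charpoly_restrict_sup [Module.Finite K(p, k) N] (π : Module.End K(p, k) N) {A B : Submodule K(p, k) N}
    (hd : Disjoint A B) (hA : ∀ x ∈ A, π x ∈ A) (hB : ∀ x ∈ B, π x ∈ B) (hAB : ∀ x ∈ A ⊔ B, π x ∈ A ⊔ B) :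
    (π.restrict hAB).charpoly = (π.restrict hA).charpoly * (π.restrict hB).charpoly := by
  let f : A × B →ₗ[K(p, k)] ↥(A ⊔ B) :=
    (Submodule.inclusion le_sup_left).coprod (Submodule.inclusion le_sup_right)
  have hinj : Function.Injective f := by
    rw [injective_iff_map_eq_zero]
    rintro ⟨x, y⟩ hxy
    have h1 : (x : N) + y = 0 := congrArg Subtype.val hxy
    have h2 : (x : N) = 0 := Submodule.disjoint_def.1 hd _ x.2 (by
      rw [eq_neg_of_add_eq_zero_left h1]; exact B.neg_mem y.2)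
    rw [h2, zero_add] at h1
    exact Prod.ext (Subtype.ext h2) (Subtype.ext h1)
  have hsurj : Function.Surjective f := by
    rintro ⟨z, hz⟩
    obtain ⟨x, hx, y, hy, rfl⟩ := Submodule.mem_sup.1 hz
    exact ⟨(⟨x, hx⟩, ⟨y, hy⟩), rfl⟩
  let e := LinearEquiv.ofBijective f ⟨hinj, hsurj⟩
  rw [← LinearMap.charpoly_prodMap, ← e.charpoly_conj]
  congr 1
  refine LinearMap.ext fun z => ?_
  obtain ⟨xy, rfl⟩ := e.surjective z
  rw [LinearEquiv.conj_apply_apply, e.symm_apply_apply]
  apply Subtype.ext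
  change π ((xy.1 : N) + (xy.2 : N)) = π xy.1 + π xy.2
  rw [map_add]

open scoped Classical in
theorem countP_roots_sup [PerfectRing k p] [IsAlgClosed Ω] (hτ : Tw τ) [Module.Finite K(p, k) N]
    (F : N →ₛₗ[τ] N) (hF : Function.Bijective F) {m : ℕ} (hm : 0 < m)
    (π : Module.End K(p, k) N) (hπ : ∀ x, π x = (⇑F)^[m] x) (μ : ℚ) (T : Finset ℚ) :
    ∀ (hT : ∀ x ∈ T.sup (Isoc.slopePart F), π x ∈ T.sup (Isoc.slopePart F)),
      Multiset.countP (Ord (p := p) (k := k) Ω m μ) (((π.restrict hT).charpoly.map (algebraMap K(p, k) Ω)).roots) =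
        if μ ∈ T then Isoc.newtonMult F μ else 0 := by
  induction T using Finset.induction_on with
  | empty =>
    intro hT
    rw [if_neg (Finset.notMem_empty μ)]
    have h0 : (π.restrict hT).charpoly = 1 := by
      refine (LinearMap.charpoly_monic _).natDegree_eq_zero.1 ?_
      rw [LinearMap.charpoly_natDegree, Finset.sup_empty, finrank_bot]
    simp [h0]
  | insert ν T hν ih =>
    intro hT
    obtain ⟨hst, hiso, -⟩ := slopePart_spec hτ F ν
    have hstπ : ∀ x ∈ Isoc.slopePart F ν, π x ∈ Isoc.slopePart F ν := fun x hx => by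
      rw [hπ]
      exact (iterate_comm F F LinearMap.id hst (fun _ _ => rfl) m hx).1
    have hTπ : ∀ x ∈ T.sup (Isoc.slopePart F), π x ∈ T.sup (Isoc.slopePart F) := by
      have : T.sup (Isoc.slopePart F) ≤ (T.sup (Isoc.slopePart F)).comap π := by
        refine Finset.sup_le fun ν' hν' x hx => Finset.le_sup (f := Isoc.slopePart F) hν' ?_
        rw [hπ]
        exact (iterate_comm F F LinearMap.id (slopePart_spec hτ F ν').1 (fun _ _ => rfl) m hx).1
      exact this
    have hd : Disjoint (Isoc.slopePart F ν) (T.sup (Isoc.slopePart F)) :=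
      disjoint_iff.2 (disjoint_finset_slopePart hτ hF.1 T ν hν _ hst hiso)
    have hsplit : (π.restrict hT).charpoly = (π.restrict hstπ).charpoly * (π.restrict hTπ).charpoly := by
      have key : ∀ (Q : Submodule K(p, k) N) (hQ : ∀ x ∈ Q, π x ∈ Q),
          Q = Isoc.slopePart F ν ⊔ T.sup (Isoc.slopePart F) →
          (π.restrict hQ).charpoly = (π.restrict hstπ).charpoly * (π.restrict hTπ).charpoly := by
        rintro Q hQ rfl
        exact charpoly_restrict_sup π hd hstπ hTπ hQ
      exact key _ hT Finset.sup_insert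
    rw [hsplit, Polynomial.map_mul, roots_mul (mul_ne_zero
      (Polynomial.map_ne_zero (LinearMap.charpoly_monic _).ne_zero)
      (Polynomial.map_ne_zero (LinearMap.charpoly_monic _).ne_zero)), Multiset.countP_add, ih hTπ]
    have hroot : ∀ α ∈ ((π.restrict hstπ).charpoly.map (algebraMap K(p, k) Ω)).roots, Ord (p := p) (k := k) Ω m ν α ∧ α ≠ 0 :=
      fun α hα => ord_of_isIsoclinic hτ (F.restrict hst) (restrict_bijective hτ hF.1 hst) m (π.restrict hstπ)
        (fun x => Subtype.ext ((hπ x).trans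
          (iterate_comm (F.restrict hst) F (Isoc.slopePart F ν).subtype (P := ⊤) (fun _ _ => trivial)
            (fun _ _ => rfl) m (x := x) trivial).2.symm))
        ν ((restrict_isIsoclinic_iff hτ F hst ν).2 hiso) (isRoot_of_mem_roots hα)
    by_cases hμν : μ = ν
    · subst hμν
      rw [if_neg hν, add_zero, if_pos (Finset.mem_insert_self μ T),
        Multiset.countP_eq_card.2 (fun α hα => (hroot α hα).1),
        ← (IsAlgClosed.splits _).natDegree_eq_card_roots, natDegree_map, LinearMap.charpoly_natDegree]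
      rfl
    · rw [Multiset.countP_eq_zero.2 fun α hα h => hμν (ord_unique hm h (hroot α hα).1 (hroot α hα).2), zero_add]
      simp [Finset.mem_insert, hμν]

open scoped Classical in
theorem newtonMult_eq_countP [PerfectRing k p] [IsAlgClosed Ω] (hτ : Tw τ) [Module.Finite K(p, k) N]
    (F : N →ₛₗ[τ] N) (hF : Function.Bijective F) {m : ℕ} (hm : 0 < m)
    (π : Module.End K(p, k) N) (hπ : ∀ x, π x = (⇑F)^[m] x) (μ : ℚ) :
    Isoc.newtonMult F μ = Multiset.countP (Ord (p := p) (k := k) Ω m μ) ((π.charpoly.map (algebraMap K(p, k) Ω)).roots) := by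
  letI : Fintype {ν : ℚ // Isoc.slopePart F ν ≠ ⊥} :=
    (iSupIndep_slopePart hτ hF.1).fintypeNeBotOfFiniteDimensional
  set T : Finset ℚ := insert μ ((Finset.univ : Finset {ν : ℚ // Isoc.slopePart F ν ≠ ⊥}).map ⟨Subtype.val, Subtype.val_injective⟩)
  have htop : T.sup (Isoc.slopePart F) = ⊤ := by
    rw [eq_top_iff, ← (isInternal_slopePart hτ hF.1 (F := F)).submodule_iSup_eq_top]
    refine iSup_le fun ν => ?_
    by_cases hν : Isoc.slopePart F ν = ⊥
    · rw [hν]; exact bot_le
    · exact Finset.le_sup (f := Isoc.slopePart F) (Finset.mem_insert_of_mem (Finset.mem_map.2 ⟨⟨ν, hν⟩, Finset.mem_univ _, rfl⟩))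
  have hT : ∀ x ∈ T.sup (Isoc.slopePart F), π x ∈ T.sup (Isoc.slopePart F) := fun x _ => htop ▸ Submodule.mem_top
  have h := countP_roots_sup (Ω := Ω) hτ F hF hm π hπ μ T hT
  rw [if_pos (Finset.mem_insert_self μ _)] at h
  rw [← h]
  congr 3
  rw [← (LinearEquiv.ofTop _ htop).charpoly_conj]
  congr 1

end Groth.Misc12.Isoc
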