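import Groth.Agent.Misc12.Isoc.Det
import Mathlib.Analysis.Subadditive
import Mathlib.NumberTheory.DiophantineApproximation.Basic
import Mathlib.Topology.Algebra.Order.Field
import Mathlib.Analysis.SpecificLimits.Basic

/-!
First slopes of isocrystals, effectivity and rationality.
-/

set_option autoImplicit false
set_option linter.unusedSectionVars false
set_option linter.style.haveILetI false

noncomputable section

open scoped Pointwise Isocrystal
open Filter Topology

universe u v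

namespace Groth.Misc12.Isoc

variable {p : ℕ} [Fact p.Prime] {k : Type u} [Field k] [CharP k p]
variable {N : Type v} [AddCommGroup N] [Module (WittVector p k) N] [Module K(p, k) N]
  [IsScalarTower (WittVector p k) K(p, k) N]
variable {τ : K(p, k) →+* K(p, k)}

local notation "am" => algebraMap (WittVector p k) (FractionRing (WittVector p k))

/-- The twisted iterate `p^m F^n`. -/
def twist (F : N →ₛₗ[τ] N) (m : ℤ) (n : ℕ) : N →ₛₗ[τ ^ n] N := (p : K(p, k)) ^ m • Isoc.iter F n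

theorem twist_iterate (hτ : Tw τ) (F : N →ₛₗ[τ] N) (m : ℤ) (n s : ℕ) (x : N) :
    (⇑(twist F m n))^[s] x = (p : K(p, k)) ^ (m * s) • (⇑F)^[n * s] x := by
  induction s generalizing x with
  | zero => simp
  | succ s ih =>
    rw [Function.iterate_succ_apply', ih]
    change (p : K(p, k)) ^ m • (⇑F)^[n] ((p : K(p, k)) ^ (m * s) • (⇑F)^[n * s] x) = _
    rw [iterate_pz_smul hτ, smul_smul, ← zpow_add₀ p_ne, ← Function.iterate_add_apply]
    push_cast
    congr 2 <;> ring

theorem latImg_twist (hτ : Tw τ) (F : N →ₛₗ[τ] N) (m : ℤ) (n s : ℕ) (M : Submodule (WittVector p k) N) :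
    Isoc.latImg (twist F m n) s M = Isoc.pPow (m * s) (Isoc.latImg F (n * s) M) := by
  ext y
  simp only [mem_latImg (hτ.pow n), mem_pPow, mem_latImg hτ, twist_iterate hτ]
  constructor
  · rintro ⟨x, hx, rfl⟩
    exact ⟨x, hx, by rw [smul_smul, ← zpow_add₀ p_ne, neg_add_cancel, zpow_zero, one_smul]⟩
  · rintro ⟨x, hx, e⟩
    exact ⟨x, hx, by rw [e, smul_smul, ← zpow_add₀ p_ne, add_neg_cancel, zpow_zero, one_smul]⟩

theorem twist_surjective {F : N →ₛₗ[τ] N} (hF : Function.Surjective F) (m : ℤ) (n : ℕ) :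
    Function.Surjective (twist F m n) := fun y => by
  obtain ⟨x, hx⟩ := hF.iterate n ((p : K(p, k)) ^ (-m) • y)
  refine ⟨x, ?_⟩
  change (p : K(p, k)) ^ m • (⇑F)^[n] x = y
  rw [hx, smul_smul, ← zpow_add₀ p_ne, add_neg_cancel, zpow_zero, one_smul]

theorem isOrd_twist_iff (hτ : Tw τ) (F : N →ₛₗ[τ] N) (m : ℤ) (n s : ℕ) (r : ℤ) (M : Submodule (WittVector p k) N) :
    Isoc.IsOrd M (twist F m n) s (m * s + r) ↔ Isoc.IsOrd M F (n * s) r := by
  rw [Isoc.IsOrd, Isoc.IsOrd, latImg_twist hτ, ← pPow_pPow (m * s) r, pPow_le_pPow_iff,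
    add_assoc, ← pPow_pPow (m * s) (r + 1), pPow_le_pPow_iff]

theorem isOrd_zero [PerfectRing k p] [Nontrivial N] {M : Submodule (WittVector p k) N} (hM : M.IsLattice K(p, k))
    (F : N →ₛₗ[τ] N) : Isoc.IsOrd M F 0 0 :=
  isOrd_of_eq hM (by simp)

theorem nontrivial_of_isOrd {M : Submodule (WittVector p k) N} {F : N →ₛₗ[τ] N} {s : ℕ} {r : ℤ}
    (h : Isoc.IsOrd M F s r) : Nontrivial N := by
  by_contra hN
  rw [not_nontrivial_iff_subsingleton] at hN
  refine h.2 fun x _ => ?_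
  rw [Subsingleton.elim x 0]
  exact zero_mem _

theorem nontrivial_of_isFirstSlope {F : N →ₛₗ[τ] N} {lam : ℝ} (h : Isoc.IsFirstSlope F lam) : Nontrivial N := by
  obtain ⟨M, -, o, ho, -⟩ := h
  exact nontrivial_of_isOrd (ho 1 le_rfl)

/-- Orders with respect to two lattices differ by a bounded amount. -/
theorem exists_ord_diff [PerfectRing k p] (hτ : Tw τ) (F : N →ₛₗ[τ] N) {M₁ M₂ : Submodule (WittVector p k) N}
    (h₁ : M₁.IsLattice K(p, k)) (h₂ : M₂.IsLattice K(p, k)) :
    ∃ C : ℤ, ∀ (n : ℕ) (r₁ r₂ : ℤ), Isoc.IsOrd M₁ F n r₁ → Isoc.IsOrd M₂ F n r₂ → r₁ - C ≤ r₂ := by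
  obtain ⟨c, hc⟩ := exists_pPow_le h₂.fg h₁
  obtain ⟨c', hc'⟩ := exists_pPow_le h₁.fg h₂
  refine ⟨c + c', fun n r₁ r₂ hr₁ hr₂ => le_of_isOrd hr₂ ?_⟩
  have e : Isoc.latImg F n (Isoc.pPow (c : ℤ) M₂) ≤ Isoc.pPow (r₁ - c') M₂ := by
    refine (latImg_mono F n hc).trans (hr₁.1.trans ?_)
    have := pPow_mono (r₁ - c') hc'
    rwa [pPow_pPow, sub_add_cancel] at this
  rw [latImg_pPow hτ] at e
  rw [← pPow_le_pPow_iff (c : ℤ), pPow_pPow]
  convert e using 2
  ring

theorem tendsto_squeeze {o o' : ℕ → ℤ} {C : ℤ} (h : ∀ n, 1 ≤ n → o n - C ≤ o' n ∧ o' n ≤ o n + C) {lam : ℝ}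
    (ho : Tendsto (fun n : ℕ => (o n : ℝ) / n) atTop (𝓝 lam)) :
    Tendsto (fun n : ℕ => (o' n : ℝ) / n) atTop (𝓝 lam) := by
  have hC : Tendsto (fun n : ℕ => (C : ℝ) / n) atTop (𝓝 0) := tendsto_const_div_atTop_nhds_zero_nat _
  refine tendsto_of_tendsto_of_tendsto_of_le_of_le'
    (by simpa using ho.sub hC) (by simpa using ho.add hC) ?_ ?_
  all_goals
    refine eventually_atTop.2 ⟨1, fun n hn => ?_⟩
    simp only [← sub_div, ← add_div]
    have := h n hn
    gcongr
    first | exact_mod_cast this.1 | exact_mod_cast this.2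

theorem tendsto_ord_of_isFirstSlope [PerfectRing k p] (hτ : Tw τ) {F : N →ₛₗ[τ] N} {lam : ℝ}
    (h : Isoc.IsFirstSlope F lam) {M : Submodule (WittVector p k) N} (hM : M.IsLattice K(p, k)) {o : ℕ → ℤ}
    (ho : ∀ n, 1 ≤ n → Isoc.IsOrd M F n (o n)) :
    Tendsto (fun n : ℕ => (o n : ℝ) / n) atTop (𝓝 lam) := by
  obtain ⟨M', hM', o', ho', ht⟩ := h
  obtain ⟨C, hC⟩ := exists_ord_diff hτ F hM hM'
  obtain ⟨C', hC'⟩ := exists_ord_diff hτ F hM' hM
  refine tendsto_squeeze (C := max C C') (fun n hn => ⟨?_, ?_⟩) ht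
  · have := hC' n _ _ (ho' n hn) (ho n hn); omega
  · have := hC n _ _ (ho n hn) (ho' n hn); omega

theorem exists_ord_seq [PerfectRing k p] [Nontrivial N] (hτ : Tw τ) {F : N →ₛₗ[τ] N} (hF : Function.Surjective F)
    {M : Submodule (WittVector p k) N} (hM : M.IsLattice K(p, k)) :
    ∃ o : ℕ → ℤ, o 0 = 0 ∧ ∀ n, Isoc.IsOrd M F n (o n) := by
  choose o ho using fun n => exists_isOrd hτ hF hM n
  exact ⟨o, isOrd_unique (ho 0) (isOrd_zero hM F), ho⟩

theorem ord_superadd (hτ : Tw τ) {F : N →ₛₗ[τ] N} {M : Submodule (WittVector p k) N} {m n : ℕ} {a b c : ℤ}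
    (ha : Isoc.IsOrd M F m a) (hb : Isoc.IsOrd M F n b) (hc : Isoc.IsOrd M F (m + n) c) : a + b ≤ c := by
  refine le_of_isOrd hc ?_
  rw [latImg_add hτ]
  refine (latImg_mono F m hb.1).trans ?_
  rw [latImg_pPow hτ, add_comm, ← pPow_pPow]
  exact pPow_mono b ha.1

theorem ord_le_det [PerfectRing k p] (hτ : Tw τ) {h : ℕ} (b : Module.Basis (Fin h) K(p, k) N) {F : N →ₛₗ[τ] N}
    {d : ℤ} (hd : Isoc.IsOrdP (Isoc.detCoeff b F) d) {M : Submodule (WittVector p k) N} (hM : M.IsLattice K(p, k))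
    {n : ℕ} {r : ℤ} (hr : Isoc.IsOrd M F n r) : r * h ≤ n * d :=
  le_mul_of_latImg_le b hτ hd hM hr.1

theorem height_pos [Nontrivial N] {h : ℕ} (b : Module.Basis (Fin h) K(p, k) N) : 0 < h := by
  by_contra hh
  haveI : IsEmpty (Fin h) := by
    rw [show h = 0 by omega]; infer_instance
  haveI := b.repr.toEquiv.subsingleton
  exact false_of_nontrivial_of_subsingleton N

theorem exists_isFirstSlope [PerfectRing k p] [Nontrivial N] (hτ : Tw τ) {F : N →ₛₗ[τ] N}
    (hF : Function.Bijective F) [Module.Finite K(p, k) N] {M : Submodule (WittVector p k) N}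
    (hM : M.IsLattice K(p, k)) :
    ∃ o : ℕ → ℤ, (∀ n, Isoc.IsOrd M F n (o n)) ∧ ∃ lam : ℝ, Tendsto (fun n : ℕ => (o n : ℝ) / n) atTop (𝓝 lam) := by
  obtain ⟨o, ho0, ho⟩ := exists_ord_seq hτ hF.2 hM
  refine ⟨o, ho, ?_⟩
  obtain ⟨h, b⟩ : Σ' h : ℕ, Module.Basis (Fin h) K(p, k) N := ⟨_, Module.finBasis K(p, k) N⟩
  obtain ⟨d, hd⟩ := exists_isOrdP_detCoeff hτ b F hF.2
  have hpos := height_pos b
  have hsub : Subadditive fun n => -(o n : ℝ) := fun m n => by
    have : ((o m : ℤ) : ℝ) + o n ≤ o (m + n) := by exact_mod_cast ord_superadd hτ (ho m) (ho n) (ho (m + n))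
    linarith
  have hbdd : BddBelow (Set.range fun n : ℕ => -(o n : ℝ) / n) := by
    refine ⟨min 0 (-(d : ℝ) / h), ?_⟩
    rintro _ ⟨n, rfl⟩
    rcases Nat.eq_zero_or_pos n with rfl | hn
    · simp
    · refine (min_le_right _ _).trans ?_
      rw [div_le_div_iff₀ (by exact_mod_cast hpos) (by exact_mod_cast hn)]
      have : ((o n : ℤ) : ℝ) * h ≤ n * d := by exact_mod_cast ord_le_det hτ b hd hM (ho n)
      nlinarith
  refine ⟨-hsub.lim, ?_⟩
  have := (hsub.tendsto_lim hbdd).neg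
  refine this.congr fun n => ?_
  ring

theorem isFirstSlope_of_exists [PerfectRing k p] [Nontrivial N] (hτ : Tw τ) {F : N →ₛₗ[τ] N}
    (hF : Function.Bijective F) [Module.Finite K(p, k) N] : ∃ lam, Isoc.IsFirstSlope F lam := by
  obtain ⟨M, hM⟩ := exists_isLattice (N := N) (p := p) (k := k)
  obtain ⟨o, ho, lam, hl⟩ := exists_isFirstSlope hτ hF hM
  exact ⟨lam, M, hM, o, fun n _ => ho n, hl⟩

theorem isFirstSlope_twist [PerfectRing k p] (hτ : Tw τ) {F : N →ₛₗ[τ] N} (hF : Function.Surjective F) {lam : ℝ}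
    (hlam : Isoc.IsFirstSlope F lam) (m : ℤ) (n : ℕ) : Isoc.IsFirstSlope (twist F m n) (n * lam + m) := by
  haveI := nontrivial_of_isFirstSlope hlam
  obtain ⟨M, hM, -⟩ := id hlam
  obtain ⟨o, ho0, ho⟩ := exists_ord_seq hτ hF hM
  have ht := tendsto_ord_of_isFirstSlope hτ hlam hM (fun s _ => ho s)
  refine ⟨M, hM, fun s => m * s + o (n * s), fun s _ => (isOrd_twist_iff hτ F m n s _ M).2 (ho _), ?_⟩
  rcases Nat.eq_zero_or_pos n with rfl | hn
  · simp only [zero_mul, ho0, add_zero, Nat.cast_zero, zero_mul, zero_add]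
    refine tendsto_const_nhds.congr' (eventually_atTop.2 ⟨1, fun s hs => ?_⟩)
    push_cast
    rw [mul_div_cancel_right₀ _ (by exact_mod_cast (by omega : s ≠ 0))]
  · have h1 : Tendsto (fun s : ℕ => (o (n * s) : ℝ) / ((n * s : ℕ) : ℝ)) atTop (𝓝 lam) :=
      ht.comp (tendsto_atTop_mono (fun s => Nat.le_mul_of_pos_left s hn) tendsto_id)
    refine ((h1.const_mul (n : ℝ)).add_const (m : ℝ)).congr' (eventually_atTop.2 ⟨1, fun s hs => ?_⟩)
    have hs' : (s : ℝ) ≠ 0 := by exact_mod_cast (by omega : s ≠ 0)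
    have hn' : (n : ℝ) ≠ 0 := by exact_mod_cast (by omega : n ≠ 0)
    push_cast
    field_simp
    ring

theorem div_le_of_latImg_le [PerfectRing k p] (hτ : Tw τ) {F : N →ₛₗ[τ] N} (hF : Function.Surjective F)
    {lam : ℝ} (hlam : Isoc.IsFirstSlope F lam) {M : Submodule (WittVector p k) N} (hM : M.IsLattice K(p, k))
    {s : ℕ} {r : ℤ} (hle : Isoc.latImg F s M ≤ Isoc.pPow r M) : (r : ℝ) ≤ s * lam := by
  haveI := nontrivial_of_isFirstSlope hlam
  obtain ⟨o, ho0, ho⟩ := exists_ord_seq hτ hF hM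
  have ht := tendsto_ord_of_isFirstSlope hτ hlam hM (fun s _ => ho s)
  have hn : ∀ j : ℕ, (j : ℤ) * r ≤ o (s * j) := by
    intro j
    induction j with
    | zero => simp [ho0]
    | succ j ih =>
      refine le_of_isOrd (ho _) ?_
      rw [Nat.mul_succ, latImg_add hτ]
      refine (latImg_mono F _ hle).trans ?_
      rw [latImg_pPow hτ, show ((j + 1 : ℕ) : ℤ) * r = r + (j : ℤ) * r by push_cast; ring, ← pPow_pPow]
      exact pPow_mono r ((ho _).1.trans (pPow_anti ih M))
  rcases Nat.eq_zero_or_pos s with rfl | hs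
  · have h1 := hn 1
    simp [ho0] at h1
    simpa using h1
  · have h1 : Tendsto (fun j : ℕ => (o (s * j) : ℝ) / ((s * j : ℕ) : ℝ)) atTop (𝓝 lam) :=
      ht.comp (tendsto_atTop_mono (fun j => Nat.le_mul_of_pos_left j hs) tendsto_id)
    refine ge_of_tendsto (h1.const_mul (s : ℝ)) (eventually_atTop.2 ⟨1, fun j hj => ?_⟩)
    have : ((j : ℝ)) * r ≤ o (s * j) := by exact_mod_cast hn j
    have hj' : (0 : ℝ) < j := by exact_mod_cast hj
    have hs' : (0 : ℝ) < s := by exact_mod_cast hs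
    push_cast
    rw [show (s : ℝ) * ((o (s * j) : ℝ) / (s * j)) = (o (s * j) : ℝ) / j by field_simp, le_div_iff₀ hj']
    linarith

/-! ### Chains of lattices between `pM` and `M` -/

theorem exists_eq_succ [PerfectRing k p] {h : ℕ} (b : Module.Basis (Fin h) K(p, k) N)
    {M : Submodule (WittVector p k) N} (hM : M.IsLattice K(p, k)) (X : ℕ → Submodule (WittVector p k) N)
    (hmono : ∀ j, j ≤ h → X j ≤ X (j + 1)) (hlo : ∀ j, j ≤ h + 1 → Isoc.pPow 1 M ≤ X j)
    (hhi : ∀ j, j ≤ h + 1 → X j ≤ M) : ∃ j, j ≤ h ∧ X (j + 1) = X j := by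
  obtain ⟨e, he⟩ := exists_adapted b hM
  let S : ℕ → Submodule k (Fin h → k) := fun j =>
    { carrier := {v | ∃ x ∈ X j, ∃ w : Fin h → WittVector p k,
        (∀ i, e.repr x i = am (w i)) ∧ ∀ i, WittVector.constantCoeff (w i) = v i}
      add_mem' := by
        rintro v v' ⟨x, hx, w, hw, hv⟩ ⟨x', hx', w', hw', hv'⟩
        exact ⟨x + x', add_mem hx hx', w + w', fun i => by simp [hw, hw'], fun i => by rw [Pi.add_apply, map_add, hv, hv', Pi.add_apply]⟩
      zero_mem' := ⟨0, zero_mem _, 0, fun i => by simp, fun i => by simp⟩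
      smul_mem' := by
        rintro a v ⟨x, hx, w, hw, hv⟩
        exact ⟨WittVector.teichmuller p a • x, Submodule.smul_mem _ _ hx, fun i => WittVector.teichmuller p a * w i,
          fun i => by rw [smulW_eq, map_smul, Finsupp.smul_apply, hw, smul_eq_mul, map_mul],
          fun i => by rw [map_mul, hv, Pi.smul_apply, smul_eq_mul, show WittVector.constantCoeff (WittVector.teichmuller p a) = a from WittVector.teichmuller_coeff_zero p a]⟩ }
  by_contra hne
  push Not at hne
  have hlt : ∀ j, j ≤ h → S j < S (j + 1) := by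
    intro j hj
    refine lt_of_le_of_ne ?_ fun heq => hne j hj (le_antisymm ?_ (hmono j hj))
    · rintro v ⟨x, hx, hxv⟩
      exact ⟨x, hmono j hj hx, hxv⟩
    · intro x hx
      choose w hw using (he x).1 (hhi (j + 1) (by omega) hx)
      have hmem : (fun i => WittVector.constantCoeff (w i)) ∈ S j := heq ▸ ⟨x, hx, w, hw, fun i => rfl⟩
      obtain ⟨y, hy, w', hw', hv⟩ := hmem
      have hsub : x - y ∈ Isoc.pPow 1 M := by
        rw [adapted_mem_pPow he]
        intro i
        have hc : w i - w' i ∈ RingHom.ker (WittVector.constantCoeff (p := p) (R := k)) := by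
          rw [RingHom.mem_ker, map_sub, hv, sub_self]
        rw [WittVector.ker_constantCoeff, Ideal.mem_span_singleton] at hc
        obtain ⟨q, hq⟩ := hc
        refine ⟨q, ?_⟩
        rw [map_sub, Finsupp.sub_apply, hw, hw', ← map_sub, hq, map_mul, map_natCast, zpow_one]
      simpa using add_mem (hlo j (by omega) hsub) hy
  have hrank : ∀ j, j ≤ h + 1 → j ≤ Module.finrank k (S j) := by
    intro j hj
    induction j with
    | zero => exact Nat.zero_le _
    | succ j ih =>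
      have := Submodule.finrank_lt_finrank_of_lt (hlt j (by omega))
      have := ih (by omega)
      omega
  have := hrank (h + 1) le_rfl
  have := (S (h + 1)).finrank_le
  rw [Module.finrank_fin_fun] at this
  omega

/-- `M + G M + ⋯ + G^j M`. -/
def chain (G : N →ₛₗ[τ] N) (M : Submodule (WittVector p k) N) : ℕ → Submodule (WittVector p k) N
  | 0 => M
  | j + 1 => chain G M j ⊔ Isoc.latImg G (j + 1) M

theorem chain_le_iff {G : N →ₛₗ[τ] N} {M X : Submodule (WittVector p k) N} {j : ℕ} :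
    chain G M j ≤ X ↔ ∀ i, i ≤ j → Isoc.latImg G i M ≤ X := by
  induction j with
  | zero => simp [chain]
  | succ j ih =>
    rw [chain, sup_le_iff, ih]
    refine ⟨fun ⟨h1, h2⟩ i hi => ?_, fun h => ⟨fun i hi => h i (by omega), h _ le_rfl⟩⟩
    rcases Nat.lt_or_ge i (j + 1) with hl | hl
    · exact h1 i (by omega)
    · rwa [show i = j + 1 by omega]

theorem le_chain {G : N →ₛₗ[τ] N} {M : Submodule (WittVector p k) N} {i j : ℕ} (hij : i ≤ j) :
    Isoc.latImg G i M ≤ chain G M j := chain_le_iff.1 le_rfl i hij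

theorem chain_isLattice (hτ : Tw τ) {G : N →ₛₗ[τ] N} (hG : Function.Surjective G)
    {M : Submodule (WittVector p k) N} (hM : M.IsLattice K(p, k)) (j : ℕ) : (chain G M j).IsLattice K(p, k) := by
  induction j with
  | zero => exact hM
  | succ j ih =>
    haveI := ih
    haveI := latImg_isLattice hτ hG (j + 1) hM
    exact Submodule.IsLattice.sup K(p, k) _ _

theorem latImg_chain (hτ : Tw τ) (G : N →ₛₗ[τ] N) (M : Submodule (WittVector p k) N) (i j : ℕ) :
    Isoc.latImg G i (chain G M j) = chain G (Isoc.latImg G i M) j := by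
  induction j with
  | zero => rfl
  | succ j ih => rw [chain, chain, latImg_sup, ih, ← latImg_add hτ, ← latImg_add hτ, add_comm i]

theorem effective_of_succ_le [PerfectRing k p] (hτ : Tw τ) {G : N →ₛₗ[τ] N} (hG : Function.Surjective G)
    {h : ℕ} (b : Module.Basis (Fin h) K(p, k) N) {M : Submodule (WittVector p k) N} (hM : M.IsLattice K(p, k))
    (hle : Isoc.latImg G (h + 1) M ≤ Isoc.pPow (-1) M) : Isoc.IsEffective G := by
  set M' := chain G M h
  have hM' := chain_isLattice hτ hG hM h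
  have hup : M' ≤ Isoc.pPow (-1) M' := by
    have := pPow_anti (p := p) (k := k) (r := -1) (r' := 0) (by omega) M'
    rwa [pPow_zero] at this
  have hbig : ∀ i, i ≤ h + 1 → Isoc.latImg G i M' ≤ Isoc.pPow (-1) M' := by
    intro i hi
    rw [latImg_chain hτ, chain_le_iff]
    intro l hl
    rw [← latImg_add hτ]
    rcases Nat.lt_or_ge (l + i) (h + 1) with hlt | hge
    · exact (le_chain (by omega)).trans hup
    · obtain ⟨e, he⟩ : ∃ e, l + i = e + (h + 1) := ⟨l + i - (h + 1), by omega⟩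
      rw [he, latImg_add hτ]
      refine (latImg_mono G e hle).trans ?_
      rw [latImg_pPow hτ]
      exact pPow_mono _ (le_chain (by omega))
  obtain ⟨j, hj, heq⟩ := exists_eq_succ b (pPow_isLattice hM' (-1)) (chain G M')
    (fun j _ => le_sup_left)
    (fun j _ => by rw [pPow_pPow, add_neg_cancel, pPow_zero]; simpa using le_chain (G := G) (M := M') (i := 0) (Nat.zero_le j))
    (fun j hj => chain_le_iff.2 fun i hi => hbig i (by omega))
  refine ⟨chain G M' j, chain_isLattice hτ hG hM' j, ?_⟩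
  rw [latImg_chain hτ, chain_le_iff]
  intro i hi
  rw [← latImg_add hτ]
  exact (le_chain (j := j + 1) (by omega)).trans heq.le

theorem effective_of_pos [PerfectRing k p] (hτ : Tw τ) {G : N →ₛₗ[τ] N} (hG : Function.Surjective G)
    {δ : ℝ} (hδ : Isoc.IsFirstSlope G δ) (hpos : 0 < δ) : Isoc.IsEffective G := by
  obtain ⟨M, hM, o, ho, ht⟩ := hδ
  obtain ⟨n, hn, hn1⟩ := ((ht.eventually (eventually_gt_nhds hpos)).and (eventually_ge_atTop 1)).exists
  have hon : 0 ≤ o n := by
    by_contra hneg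
    have : ((o n : ℝ) / n) ≤ 0 := div_nonpos_of_nonpos_of_nonneg (by exact_mod_cast (by omega : o n ≤ 0)) (Nat.cast_nonneg n)
    linarith
  refine ⟨chain G M (n - 1), chain_isLattice hτ hG hM _, ?_⟩
  rw [latImg_chain hτ, chain_le_iff]
  intro i hi
  rw [← latImg_add hτ]
  rcases Nat.lt_or_ge (i + 1) n with hl | hl
  · exact le_chain (by omega)
  · rw [show i + 1 = n by omega]
    refine ((ho n hn1).1.trans (pPow_anti hon M)).trans ?_
    rw [pPow_zero]
    simpa using le_chain (G := G) (M := M) (i := 0) (Nat.zero_le (n - 1))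

theorem succ_le_of_effective (hτ : Tw τ) {G : N →ₛₗ[τ] N} {h : ℕ} {M : Submodule (WittVector p k) N}
    (hle : Isoc.latImg (twist G 1 (h + 1)) 1 M ≤ M) : Isoc.latImg G (h + 1) M ≤ Isoc.pPow (-1) M := by
  rw [latImg_twist hτ, mul_one] at hle
  have := pPow_mono (-1) hle
  simpa [pPow_pPow] using this

theorem effective_of_nonneg [PerfectRing k p] (hτ : Tw τ) {G : N →ₛₗ[τ] N} (hG : Function.Surjective G)
    {h : ℕ} (b : Module.Basis (Fin h) K(p, k) N)
    {δ : ℝ} (hδ : Isoc.IsFirstSlope G δ) (hnn : 0 ≤ δ) : Isoc.IsEffective G := by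
  have hH := isFirstSlope_twist hτ hG hδ 1 (h + 1)
  have hpos : (0 : ℝ) < ((h + 1 : ℕ) : ℝ) * δ + ((1 : ℤ) : ℝ) := by push_cast; positivity
  obtain ⟨M, hM, hle⟩ := effective_of_pos (hτ.pow _) (twist_surjective hG 1 (h + 1)) hH hpos
  exact effective_of_succ_le hτ hG b hM (succ_le_of_effective hτ hle)

theorem effective_of_ge [PerfectRing k p] (hτ : Tw τ) {G : N →ₛₗ[τ] N} (hG : Function.Surjective G)
    {h : ℕ} (b : Module.Basis (Fin h) K(p, k) N)
    {δ : ℝ} (hδ : Isoc.IsFirstSlope G δ) (hge : -1 ≤ ((h : ℝ) + 1) * δ) : Isoc.IsEffective G := by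
  have hH := isFirstSlope_twist hτ hG hδ 1 (h + 1)
  have hnn : (0 : ℝ) ≤ ((h + 1 : ℕ) : ℝ) * δ + ((1 : ℤ) : ℝ) := by push_cast; linarith
  obtain ⟨M, hM, hle⟩ := effective_of_nonneg (hτ.pow _) (twist_surjective hG 1 (h + 1)) b hH hnn
  exact effective_of_succ_le hτ hG b hM (succ_le_of_effective hτ hle)

theorem nilpotent_mod_p [PerfectRing k p] (hτ : Tw τ) {G : N →ₛₗ[τ] N} {h : ℕ} (b : Module.Basis (Fin h) K(p, k) N)
    {M : Submodule (WittVector p k) N} (hM : M.IsLattice K(p, k)) (hGM : Isoc.latImg G 1 M ≤ M)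
    {n : ℕ} (hn : Isoc.latImg G n M ≤ Isoc.pPow 1 M) : Isoc.latImg G h M ≤ Isoc.pPow 1 M := by
  set D : ℕ → Submodule (WittVector p k) N := fun j => Isoc.latImg G j M ⊔ Isoc.pPow 1 M
  have hp : Isoc.latImg G 1 (Isoc.pPow 1 M) ≤ Isoc.pPow 1 M := by rw [latImg_pPow hτ]; exact pPow_mono 1 hGM
  have hstep : ∀ j, Isoc.latImg G 1 (D j) ⊔ Isoc.pPow 1 M = D (j + 1) := by
    intro j
    rw [show D j = Isoc.latImg G j M ⊔ Isoc.pPow 1 M from rfl, latImg_sup, ← latImg_add hτ, sup_assoc,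
      sup_eq_right.2 hp, add_comm 1 j]
  have hanti : ∀ j, D (j + 1) ≤ D j := fun j => by
    refine sup_le_sup_right ?_ _
    rw [latImg_add hτ]
    exact latImg_mono G j hGM
  obtain ⟨j, hj, heq⟩ := exists_eq_succ b hM (fun j => D (h + 1 - j))
    (fun j hj => by simpa [show h + 1 - j = h + 1 - (j + 1) + 1 by omega] using hanti (h + 1 - (j + 1)))
    (fun j _ => le_sup_right)
    (fun j _ => by
      refine sup_le ?_ ?_
      · generalize h + 1 - j = i
        induction i with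
        | zero => simp
        | succ i ih => rw [latImg_add hτ]; exact (latImg_mono G i hGM).trans ih
      · simpa using pPow_anti (p := p) (k := k) (show (0 : ℤ) ≤ 1 by omega) M)
  obtain ⟨i, hi, hieq⟩ : ∃ i, i ≤ h ∧ D i = D (i + 1) :=
    ⟨h + 1 - (j + 1), by omega, by
      simpa [show h + 1 - j = h + 1 - (j + 1) + 1 by omega] using heq⟩
  have hconst : ∀ l, D (i + l) = D i := by
    intro l
    induction l with
    | zero => rfl
    | succ l ih => rw [← add_assoc, ← hstep, ih, hstep, ← hieq]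
  have hle : ∀ a c, a ≤ c → D c ≤ D a := fun a c hac =>
    antitone_nat_of_succ_le hanti hac
  calc Isoc.latImg G h M ≤ D h := le_sup_left
    _ ≤ D i := hle i h hi
    _ = D (i + n) := (hconst n).symm
    _ ≤ D n := hle n (i + n) (by omega)
    _ ≤ Isoc.pPow 1 M := sup_le hn le_rfl

theorem exists_rational [PerfectRing k p] (hτ : Tw τ) {F : N →ₛₗ[τ] N} (hF : Function.Surjective F)
    {h : ℕ} (b : Module.Basis (Fin h) K(p, k) N) {lam : ℝ} (hlam : Isoc.IsFirstSlope F lam) :
    ∃ (r : ℤ) (s : ℕ) (M : Submodule (WittVector p k) N), 0 < s ∧ s ≤ h ∧ lam = (r : ℝ) / s ∧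
      M.IsLattice K(p, k) ∧ Isoc.IsOrd M F s r := by
  haveI := nontrivial_of_isFirstSlope hlam
  have hh := height_pos b
  obtain ⟨r, s', hs0, hsh, habs⟩ := Real.exists_int_int_abs_mul_sub_le lam hh
  obtain ⟨s, rfl⟩ : ∃ s : ℕ, s' = (s : ℤ) := ⟨s'.toNat, by omega⟩
  have hs : 0 < s := by exact_mod_cast hs0
  push_cast at habs
  set δ : ℝ := (s : ℝ) * lam - r with hδ
  have hG : Isoc.IsFirstSlope (twist F (-r) s) δ := by
    have := isFirstSlope_twist hτ hF hlam (-r) s
    rw [hδ]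
    convert this using 1
    push_cast; ring
  have hτs := hτ.pow s
  have hGs := twist_surjective hF (-r) s
  have hh1 : (0 : ℝ) < (h : ℝ) + 1 := by positivity
  rw [abs_le, neg_le, le_div_iff₀ hh1, le_div_iff₀ hh1] at habs
  obtain ⟨M, hM, hle⟩ := effective_of_ge hτs hGs b hG (by linarith)
  have hδ0 : δ = 0 := by
    refine le_antisymm ?_ ?_
    · by_contra hpos
      push Not at hpos
      obtain ⟨o, ho0, ho⟩ := exists_ord_seq hτs hGs hM
      have ht := tendsto_ord_of_isFirstSlope hτs hG hM (fun s _ => ho s)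
      obtain ⟨n, hn, hn1⟩ := ((ht.eventually (eventually_gt_nhds hpos)).and (eventually_ge_atTop 1)).exists
      have hon : 1 ≤ o n := by
        by_contra hneg
        have : ((o n : ℝ) / n) ≤ 0 := div_nonpos_of_nonpos_of_nonneg (by exact_mod_cast (by omega : o n ≤ 0)) (Nat.cast_nonneg n)
        linarith
      have h1 := nilpotent_mod_p hτs b hM hle ((ho n).1.trans (pPow_anti hon M))
      have h2 := div_le_of_latImg_le hτs hGs hG hM h1
      push_cast at h2
      linarith [habs.2]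
    · have := div_le_of_latImg_le hτs hGs hG hM (r := 0) (s := 1) (by simpa using hle)
      simpa using this
  have hlr : lam = (r : ℝ) / s := by
    rw [hδ] at hδ0
    field_simp
    linarith
  have hFM : Isoc.latImg F s M ≤ Isoc.pPow r M := by
    have := pPow_mono r hle
    rw [latImg_twist hτ, mul_one, pPow_pPow] at this
    simpa using this
  refine ⟨r, s, M, hs, by exact_mod_cast hsh, hlr, hM, hFM, fun hle2 => ?_⟩
  have := div_le_of_latImg_le hτ hF hlam hM hle2
  rw [hlr] at this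
  field_simp at this
  push_cast at this
  linarith

end Groth.Misc12.Isoc
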