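import Groth.Agent.Misc12.Isoc.Slope

/-!
Isoclinic sub- and quotient isocrystals, vanishing of maps between different slopes, slope parts.
-/

set_option autoImplicit false
set_option linter.unusedSectionVars false
set_option linter.style.haveILetI false

noncomputable section

open scoped Pointwise Isocrystal

universe u v w

namespace Groth.Misc12.Isoc

variable {p : ℕ} [Fact p.Prime] {k : Type u} [Field k] [CharP k p]
variable {N : Type v} [AddCommGroup N] [Module (WittVector p k) N] [Module K(p, k) N]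
  [IsScalarTower (WittVector p k) K(p, k) N]
variable {N' : Type w} [AddCommGroup N'] [Module (WittVector p k) N'] [Module K(p, k) N']
  [IsScalarTower (WittVector p k) K(p, k) N']
variable {τ : K(p, k) →+* K(p, k)}

local notation "am" => algebraMap (WittVector p k) (FractionRing (WittVector p k))

/-- Restriction of scalars of a linear map to `W`. -/
abbrev resW (f : N →ₗ[K(p, k)] N') : N →ₗ[WittVector p k] N' := f.restrictScalars (WittVector p k)

theorem pPow_map (f : N →ₗ[K(p, k)] N') (r : ℤ) (M : Submodule (WittVector p k) N) :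
    (Isoc.pPow r M).map (resW f) = Isoc.pPow r (M.map (resW f)) := by
  ext y
  rw [mem_pPow, Submodule.mem_map, Submodule.mem_map]
  constructor
  · rintro ⟨x, hx, rfl⟩
    exact ⟨_, mem_pPow.1 hx, map_smul f _ x⟩
  · rintro ⟨x, hx, e⟩
    refine ⟨(p : K(p, k)) ^ r • x, pz_smul_mem_pPow hx, ?_⟩
    change f ((p : K(p, k)) ^ r • x) = y
    rw [map_smul, show f x = _ from e, smul_smul, ← zpow_add₀ p_ne, add_neg_cancel, zpow_zero, one_smul]

/-- `f` intertwines `F` and `F'` on the `F`-stable subspace `P`. -/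
theorem iterate_comm (F : N →ₛₗ[τ] N) (F' : N' →ₛₗ[τ] N') (f : N →ₗ[K(p, k)] N') {P : Submodule K(p, k) N}
    (hP : ∀ x ∈ P, F x ∈ P) (hf : ∀ x ∈ P, f (F x) = F' (f x)) (s : ℕ) {x : N} (hx : x ∈ P) :
    (⇑F)^[s] x ∈ P ∧ f ((⇑F)^[s] x) = (⇑F')^[s] (f x) := by
  induction s with
  | zero => exact ⟨hx, rfl⟩
  | succ s ih =>
    rw [Function.iterate_succ_apply', Function.iterate_succ_apply', ← ih.2]
    exact ⟨hP _ ih.1, hf _ ih.1⟩

theorem latImg_map (hτ : Tw τ) (F : N →ₛₗ[τ] N) (F' : N' →ₛₗ[τ] N') (f : N →ₗ[K(p, k)] N')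
    {P : Submodule K(p, k) N} (hP : ∀ x ∈ P, F x ∈ P) (hf : ∀ x ∈ P, f (F x) = F' (f x)) (s : ℕ)
    {M : Submodule (WittVector p k) N} (hM : ∀ x ∈ M, x ∈ P) :
    (Isoc.latImg F s M).map (resW f) = Isoc.latImg F' s (M.map (resW f)) := by
  ext y
  rw [Submodule.mem_map, mem_latImg hτ]
  constructor
  · rintro ⟨z, hz, rfl⟩
    obtain ⟨x, hx, rfl⟩ := (mem_latImg hτ).1 hz
    exact ⟨f x, ⟨x, hx, rfl⟩, ((iterate_comm F F' f hP hf s (hM x hx)).2).symm⟩
  · rintro ⟨z, ⟨x, hx, rfl⟩, rfl⟩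
    exact ⟨_, (mem_latImg hτ).2 ⟨x, hx, rfl⟩, (iterate_comm F F' f hP hf s (hM x hx)).2⟩

/-- `P` carries a `W`-lattice `M` with `F^s M = p^r M`, `r / s = μ`. -/
def IsoOn (F : N →ₛₗ[τ] N) (μ : ℚ) (P : Submodule K(p, k) N) : Prop :=
  ∃ M : Submodule (WittVector p k) N, M.FG ∧ Submodule.span K(p, k) (M : Set N) = P ∧
    ∃ (r : ℤ) (s : ℕ), 0 < s ∧ (r : ℚ) / s = μ ∧ Isoc.latImg F s M = Isoc.pPow r M

theorem isIsoclinic_iff_isoOn_top (F : N →ₛₗ[τ] N) (μ : ℚ) : Isoc.IsIsoclinic F μ ↔ IsoOn F μ ⊤ :=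
  ⟨fun ⟨M, hM, h⟩ => ⟨M, hM.fg, hM.span_eq_top, h⟩, fun ⟨M, h1, h2, h⟩ => ⟨M, ⟨h1, h2⟩, h⟩⟩

theorem isoOn_bot (F : N →ₛₗ[τ] N) (μ : ℚ) : IsoOn F μ ⊥ := by
  refine ⟨⊥, Submodule.fg_bot, by simp, μ.num, μ.den, μ.pos, Rat.num_div_den μ, ?_⟩
  refine le_antisymm (latImg_le_iff.2 fun x hx => ?_) (fun x hx => ?_)
  · rw [Submodule.mem_bot] at hx
    rw [hx, show (⇑F)^[μ.den] 0 = 0 from map_zero (Isoc.iter F μ.den)]
    exact zero_mem _
  · rw [mem_pPow, Submodule.mem_bot] at hx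
    rw [(smul_eq_zero.1 hx).resolve_left (pz_ne _)]
    exact zero_mem _

theorem IsoOn.map (hτ : Tw τ) {F : N →ₛₗ[τ] N} {F' : N' →ₛₗ[τ] N'} (f : N →ₗ[K(p, k)] N') {μ : ℚ}
    {P : Submodule K(p, k) N} (hP : ∀ x ∈ P, F x ∈ P) (hf : ∀ x ∈ P, f (F x) = F' (f x)) (h : IsoOn F μ P) :
    IsoOn F' μ (P.map f) := by
  obtain ⟨M, hfg, hspan, r, s, hs, hrs, he⟩ := h
  have hMP : ∀ x ∈ M, x ∈ P := fun x hx => hspan ▸ Submodule.subset_span hx
  refine ⟨M.map (resW f), hfg.map _, ?_, r, s, hs, hrs, ?_⟩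
  · rw [← hspan, Submodule.map_span]; rfl
  · rw [← latImg_map hτ F F' f hP hf s hMP, he, pPow_map]

theorem iso_pow (hτ : Tw τ) {F : N →ₛₗ[τ] N} {M : Submodule (WittVector p k) N} {s : ℕ} {r : ℤ}
    (h : Isoc.latImg F s M = Isoc.pPow r M) (t : ℕ) : Isoc.latImg F (t * s) M = Isoc.pPow ((t : ℤ) * r) M := by
  induction t with
  | zero => simp
  | succ t ih =>
    rw [Nat.succ_mul, latImg_add hτ, h, latImg_pPow hτ, ih, pPow_pPow]
    congr 1
    push_cast; ring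

theorem iso_common (hτ : Tw τ) {F : N →ₛₗ[τ] N} {F' : N' →ₛₗ[τ] N'} {M : Submodule (WittVector p k) N}
    {M' : Submodule (WittVector p k) N'} {s s' : ℕ} {r r' : ℤ}
    (h : Isoc.latImg F s M = Isoc.pPow r M) (h' : Isoc.latImg F' s' M' = Isoc.pPow r' M') :
    Isoc.latImg F (s * s') M = Isoc.pPow ((s' : ℤ) * r) M ∧ Isoc.latImg F' (s * s') M' = Isoc.pPow ((s : ℤ) * r') M' := by
  refine ⟨?_, iso_pow hτ h' s⟩
  rw [mul_comm s s']
  exact iso_pow hτ h s'

theorem IsoOn.sup (hτ : Tw τ) {F : N →ₛₗ[τ] N} {μ : ℚ} {P Q : Submodule K(p, k) N}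
    (hP : IsoOn F μ P) (hQ : IsoOn F μ Q) : IsoOn F μ (P ⊔ Q) := by
  obtain ⟨M, hfg, hspan, r, s, hs, hrs, he⟩ := hP
  obtain ⟨M', hfg', hspan', r', s', hs', hrs', he'⟩ := hQ
  obtain ⟨h1, h2⟩ := iso_common hτ he he'
  have hR : (s' : ℤ) * r = (s : ℤ) * r' := by
    have : (r : ℚ) / s = (r' : ℚ) / s' := hrs.trans hrs'.symm
    rw [div_eq_div_iff (by exact_mod_cast hs.ne') (by exact_mod_cast hs'.ne')] at this
    have e : r * (s' : ℤ) = r' * (s : ℤ) := by exact_mod_cast this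
    linarith
  refine ⟨M ⊔ M', hfg.sup hfg', ?_, (s' : ℤ) * r, s * s', Nat.mul_pos hs hs', ?_, ?_⟩
  · rw [← hspan, ← hspan', ← Submodule.span_union]
    refine le_antisymm (Submodule.span_le.2 fun x hx => ?_)
      (Submodule.span_mono (Set.union_subset (le_sup_left : M ≤ M ⊔ M') (le_sup_right : M' ≤ M ⊔ M')))
    obtain ⟨a, ha, b, hb, rfl⟩ := Submodule.mem_sup.1 hx
    exact add_mem (Submodule.subset_span (Or.inl ha)) (Submodule.subset_span (Or.inr hb))
  · rw [← hrs]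
    have hs0 : (s : ℚ) ≠ 0 := by exact_mod_cast hs.ne'
    have hs0' : (s' : ℚ) ≠ 0 := by exact_mod_cast hs'.ne'
    push_cast
    field_simp
  · rw [latImg_sup, h1, h2, pPow_sup, hR]

theorem stable_surjOn [Module.Finite K(p, k) N] (hτ : Tw τ) {F : N →ₛₗ[τ] N} (hF : Function.Injective F)
    {P : Submodule K(p, k) N} (hP : ∀ x ∈ P, F x ∈ P) : ∀ y ∈ P, ∃ x ∈ P, F x = y := by
  let v := Module.finBasis K(p, k) P
  let w : Fin (Module.finrank K(p, k) P) → P := fun i => ⟨F (v i), hP _ (v i).2⟩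
  have hli : LinearIndependent K(p, k) w := by
    rw [Fintype.linearIndependent_iff]
    intro g hg i
    choose g' hg' using fun i => hτ.bijective.2 (g i)
    have h1 : F ((∑ j, g' j • v j : P) : N) = 0 := by
      have h2 := congrArg (Subtype.val : P → N) hg
      simp only [Submodule.coe_sum, Submodule.coe_smul, Submodule.coe_zero, w] at h2
      simp only [Submodule.coe_sum, Submodule.coe_smul, map_sum, map_smulₛₗ, hg']
      exact h2
    have h2 : (∑ j, g' j • v j : P) = 0 := Subtype.ext (hF (by rw [h1, Submodule.coe_zero, map_zero]))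
    rw [← hg', Fintype.linearIndependent_iff.1 v.linearIndependent g' h2 i, map_zero]
  intro y hy
  have hsp : (⟨y, hy⟩ : P) ∈ Submodule.span K(p, k) (Set.range w) := by
    rw [hli.span_eq_top_of_card_eq_finrank' (Fintype.card_fin _)]; trivial
  rw [Submodule.mem_span_range_iff_exists_fun] at hsp
  obtain ⟨c, hc⟩ := hsp
  choose c' hc' using fun i => hτ.bijective.2 (c i)
  refine ⟨((∑ j, c' j • v j : P) : N), Subtype.mem _, ?_⟩
  have h2 := congrArg (Subtype.val : P → N) hc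
  simp only [Submodule.coe_sum, Submodule.coe_smul, w] at h2
  simp only [Submodule.coe_sum, Submodule.coe_smul, map_sum, map_smulₛₗ, hc']
  exact h2

theorem restrict_bijective [Module.Finite K(p, k) N] (hτ : Tw τ) {F : N →ₛₗ[τ] N} (hF : Function.Injective F)
    {P : Submodule K(p, k) N} (hP : ∀ x ∈ P, F x ∈ P) : Function.Bijective (F.restrict hP) := by
  refine ⟨fun x y hxy => Subtype.ext (hF (congrArg Subtype.val hxy)), fun y => ?_⟩
  obtain ⟨x, hx, e⟩ := stable_surjOn hτ hF hP y.1 y.2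
  exact ⟨⟨x, hx⟩, Subtype.ext e⟩

theorem restrict_isIsoclinic_iff (hτ : Tw τ) (F : N →ₛₗ[τ] N) {P : Submodule K(p, k) N}
    (hP : ∀ x ∈ P, F x ∈ P) (μ : ℚ) : Isoc.IsIsoclinic (F.restrict hP) μ ↔ IsoOn F μ P := by
  constructor
  · intro h
    have := ((isIsoclinic_iff_isoOn_top _ μ).1 h).map hτ (F' := F) P.subtype (P := ⊤) (fun _ _ => trivial)
      (fun x _ => rfl)
    rwa [Submodule.map_subtype_top] at this
  · rintro ⟨M, hfg, hspan, r, s, hs, hrs, he⟩
    have hMP : ∀ x ∈ M, x ∈ P := fun x hx => hspan ▸ Submodule.subset_span hx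
    set Mp : Submodule (WittVector p k) P := M.comap (resW P.subtype)
    have hmap : Mp.map (resW P.subtype) = M := by
      refine Submodule.map_comap_eq_self fun x hx => ⟨⟨x, hMP x hx⟩, rfl⟩
    have hinj : Function.Injective (resW P.subtype) := Subtype.val_injective
    refine ⟨Mp, ⟨?_, ?_⟩, r, s, hs, hrs, ?_⟩
    · exact Submodule.fg_of_fg_map_injective _ hinj (hmap ▸ hfg)
    · apply Submodule.map_injective_of_injective (f := P.subtype) Subtype.val_injective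
      rw [Submodule.map_span, Submodule.map_subtype_top,
        show (P.subtype : P → N) '' (Mp : Set P) = ((Mp.map (resW P.subtype)) : Set N) from rfl, hmap, hspan]
    · apply Submodule.map_injective_of_injective hinj
      rw [latImg_map hτ (F.restrict hP) F P.subtype (P := ⊤) (fun _ _ => trivial) (fun x _ => rfl) s
        (fun x _ => trivial), pPow_map, hmap, he]

theorem IsoOn.inter [PerfectRing k p] [Module.Finite K(p, k) N] (hτ : Tw τ) {F : N →ₛₗ[τ] N}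
    (hF : Function.Injective F) {μ : ℚ} {P Q : Submodule K(p, k) N} (hQP : Q ≤ P) (h : IsoOn F μ P)
    (hQ : ∀ x ∈ Q, F x ∈ Q) : IsoOn F μ Q := by
  obtain ⟨M, hfg, hspan, r, s, hs, hrs, he⟩ := h
  refine ⟨M ⊓ Q.restrictScalars (WittVector p k), ?_, ?_, r, s, hs, hrs, ?_⟩
  · haveI : Module.Finite (WittVector p k) M := Module.Finite.iff_fg.2 hfg
    haveI : IsNoetherian (WittVector p k) ↥(M ⊓ Q.restrictScalars (WittVector p k)) :=
      isNoetherian_of_le inf_le_left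
    exact Module.Finite.iff_fg.1 inferInstance
  · refine le_antisymm (Submodule.span_le.2 fun x hx => hx.2) fun x hx => ?_
    have hxs : x ∈ Submodule.span K(p, k) (M : Set N) := hspan ▸ hQP hx
    obtain ⟨c, hc⟩ : ∃ c : ℕ, (p : K(p, k)) ^ (c : ℤ) • x ∈ M := by
      let S := Submodule.span K(p, k) (M : Set N)
      have hl : (M.comap (resW S.subtype)).IsLattice K(p, k) := by
        refine ⟨Submodule.fg_of_fg_map_injective _ (show Function.Injective (resW S.subtype) from Subtype.val_injective) ?_, ?_⟩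
        · rwa [Submodule.map_comap_eq_self fun y hy => ⟨⟨y, Submodule.subset_span hy⟩, rfl⟩]
        · exact Submodule.span_span_coe_preimage
      obtain ⟨c, hc⟩ := exists_smul_mem hl (⟨x, hxs⟩ : S)
      exact ⟨c, hc⟩
    have hx' := Submodule.smul_mem (Submodule.span K(p, k)
      ((M ⊓ Q.restrictScalars (WittVector p k) : Submodule (WittVector p k) N) : Set N)) ((p : K(p, k)) ^ (-(c : ℤ)))
      (Submodule.subset_span ⟨hc, Q.smul_mem _ hx⟩)
    rwa [smul_smul, ← zpow_add₀ p_ne, neg_add_cancel, zpow_zero, one_smul] at hx'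
  · refine le_antisymm (latImg_le_iff.2 fun x hx => ?_) fun y hy => ?_
    · rw [mem_pPow]
      refine ⟨?_, Q.smul_mem _ (iterate_comm F F LinearMap.id hQ (fun _ _ => rfl) s hx.2).1⟩
      exact mem_pPow.1 (he ▸ Submodule.subset_span ⟨x, hx.1, rfl⟩)
    · rw [mem_pPow] at hy
      obtain ⟨x, hxM, hxy⟩ := (mem_latImg hτ).1 (he ▸ (mem_pPow.2 hy.1 : y ∈ Isoc.pPow r M))
      refine (mem_latImg hτ).2 ⟨x, ⟨hxM, ?_⟩, hxy⟩
      have hyQ : y ∈ Q := by
        have := Q.smul_mem ((p : K(p, k)) ^ r) hy.2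
        rwa [smul_smul, ← zpow_add₀ p_ne, add_neg_cancel, zpow_zero, one_smul] at this
      clear hxM
      induction s generalizing y x with
      | zero => exact absurd hs (lt_irrefl 0)
      | succ s ih =>
        rw [Function.iterate_succ_apply'] at hxy
        obtain ⟨z, hz, hzy⟩ := stable_surjOn hτ hF hQ y hyQ
        have hz' : (⇑F)^[s] x = z := hF (hxy.trans hzy.symm)
        clear hy ih hs hxy he hzy hyQ hrs
        induction s generalizing z x with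
        | zero =>
          rw [Function.iterate_zero_apply] at hz'
          exact hz' ▸ hz
        | succ s ih =>
          rw [Function.iterate_succ_apply'] at hz'
          obtain ⟨z', hz2, hzz⟩ := stable_surjOn hτ hF hQ z hz
          exact ih x z' hz2 (hF (hz'.trans hzz.symm))

theorem hom_eq_zero [PerfectRing k p] (hτ : Tw τ) {F₁ : N →ₛₗ[τ] N} {F₂ : N' →ₛₗ[τ] N'}
    (hinj : Function.Injective F₂) {μ₁ μ₂ : ℚ} (h₁ : Isoc.IsIsoclinic F₁ μ₁) (h₂ : Isoc.IsIsoclinic F₂ μ₂)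
    (hne : μ₁ ≠ μ₂) (f : N →ₗ[K(p, k)] N') (hf : ∀ x, f (F₁ x) = F₂ (f x)) : f = 0 := by
  obtain ⟨M₁, hM₁, r₁, s₁, hs₁, hr₁, e₁⟩ := h₁
  obtain ⟨M₂, hM₂, r₂, s₂, hs₂, hr₂, e₂⟩ := h₂
  obtain ⟨E₁, E₂⟩ := iso_common hτ e₁ e₂
  set S := s₁ * s₂
  set R₁ : ℤ := (s₂ : ℤ) * r₁
  set R₂ : ℤ := (s₁ : ℤ) * r₂
  have hR : R₁ ≠ R₂ := by
    intro e
    apply hne
    have e' : (s₂ : ℚ) * r₁ = (s₁ : ℚ) * r₂ := by exact_mod_cast e
    rw [← hr₁, ← hr₂, div_eq_div_iff (by exact_mod_cast hs₁.ne') (by exact_mod_cast hs₂.ne')]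
    linarith
  have hT : Isoc.latImg F₂ S (M₁.map (resW f)) = Isoc.pPow R₁ (M₁.map (resW f)) := by
    rw [← latImg_map hτ F₁ F₂ f (P := ⊤) (fun _ _ => trivial) (fun x _ => hf x) S (fun _ _ => trivial), E₁, pPow_map]
  have hfg : (M₁.map (resW f)).FG := hM₁.fg.map _
  obtain ⟨c, hc⟩ := exists_pPow_le hfg hM₂
  set T := M₁.map (resW f)
  have hbig : ∀ j : ℕ, T ≤ Isoc.pPow (j : ℤ) M₂ := by
    intro j
    have hup : T ≤ Isoc.pPow (-(c : ℤ)) M₂ := by
      rw [← pPow_le_pPow_iff (c : ℤ), pPow_pPow, add_neg_cancel, pPow_zero]; exact hc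
    obtain ⟨n, hn⟩ : ∃ n : ℕ, (c : ℤ) + j ≤ (n : ℤ) * |R₁ - R₂| := by
      refine ⟨(c + j), ?_⟩
      have h1 : (1 : ℤ) ≤ |R₁ - R₂| := Int.one_le_abs (sub_ne_zero.2 hR)
      calc (c : ℤ) + j = (((c + j : ℕ)) : ℤ) * 1 := by push_cast; ring
        _ ≤ _ := by gcongr
    have key : Isoc.pPow ((n : ℤ) * R₁) T ≤ Isoc.pPow ((n : ℤ) * R₂ + -(c : ℤ)) M₂ := by
      rw [← iso_pow hτ hT n]
      refine (latImg_mono F₂ _ hup).trans ?_
      rw [latImg_pPow hτ, iso_pow hτ E₂ n, pPow_pPow, add_comm]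
    rcases lt_or_gt_of_ne hR with hlt | hgt
    · rw [← pPow_le_pPow_iff ((n : ℤ) * R₁), pPow_pPow]
      refine key.trans (pPow_anti ?_ M₂)
      rw [abs_of_neg (by omega : R₁ - R₂ < 0)] at hn
      linarith
    · intro z hz
      have h1 : (⇑F₂)^[n * S] z ∈ Isoc.pPow ((n : ℤ) * R₁ + -(c : ℤ)) M₂ := by
        have h2 : (⇑F₂)^[n * S] z ∈ Isoc.pPow ((n : ℤ) * R₁) T :=
          iso_pow hτ hT n ▸ Submodule.subset_span ⟨z, hz, rfl⟩
        have := pPow_mono ((n : ℤ) * R₁) hup h2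
        rwa [pPow_pPow] at this
      have h2 : (⇑F₂)^[n * S] z ∈ Isoc.latImg F₂ (n * S) (Isoc.pPow (j : ℤ) M₂) := by
        rw [latImg_pPow hτ, iso_pow hτ E₂ n, pPow_pPow]
        refine pPow_anti ?_ M₂ h1
        rw [abs_of_pos (by omega : 0 < R₁ - R₂)] at hn
        linarith
      obtain ⟨y, hy, e⟩ := (mem_latImg hτ).1 h2
      exact (hinj.iterate _ e) ▸ hy
  refine LinearMap.ext_on hM₁.span_eq_top fun x hx => ?_
  rw [LinearMap.zero_apply]
  exact exists_smul_notMem hM₂ (by simpa using hbig 0 (⟨x, hx, rfl⟩ : f x ∈ T)) fun j => hbig j ⟨x, hx, rfl⟩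

theorem isoOn_eq_bot [PerfectRing k p] [Module.Finite K(p, k) N] (hτ : Tw τ) {F : N →ₛₗ[τ] N} (hF : Function.Injective F)
    {P : Submodule K(p, k) N} (hP : ∀ x ∈ P, F x ∈ P) {μ ν : ℚ} (hne : μ ≠ ν) (h1 : IsoOn F μ P) (h2 : IsoOn F ν P) :
    P = ⊥ := by
  have := hom_eq_zero hτ (restrict_bijective hτ hF hP).1 ((restrict_isIsoclinic_iff hτ F hP μ).2 h1)
    ((restrict_isIsoclinic_iff hτ F hP ν).2 h2) hne LinearMap.id (fun _ => rfl)
  rw [Submodule.eq_bot_iff]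
  intro x hx
  exact congrArg Subtype.val (DFunLike.congr_fun this ⟨x, hx⟩)

theorem stable_sup {F : N →ₛₗ[τ] N} {P Q : Submodule K(p, k) N} (hP : ∀ x ∈ P, F x ∈ P) (hQ : ∀ x ∈ Q, F x ∈ Q) :
    ∀ x ∈ P ⊔ Q, F x ∈ P ⊔ Q := by
  intro x hx
  obtain ⟨a, ha, b, hb, rfl⟩ := Submodule.mem_sup.1 hx
  rw [map_add]
  exact add_mem (Submodule.mem_sup_left (hP a ha)) (Submodule.mem_sup_right (hQ b hb))

theorem slopePart_spec [Module.Finite K(p, k) N] (hτ : Tw τ) (F : N →ₛₗ[τ] N) (μ : ℚ) :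
    (∀ x ∈ Isoc.slopePart F μ, F x ∈ Isoc.slopePart F μ) ∧ IsoOn F μ (Isoc.slopePart F μ) ∧
      ∀ P : Submodule K(p, k) N, (∀ x ∈ P, F x ∈ P) → IsoOn F μ P → P ≤ Isoc.slopePart F μ := by
  let S : Set (Submodule K(p, k) N) := {P | (∀ x ∈ P, F x ∈ P) ∧ IsoOn F μ P}
  have hne : S.Nonempty := ⟨⊥, fun x hx => by simp_all, isoOn_bot F μ⟩
  obtain ⟨P, hP, hmax⟩ := (wellFounded_gt (α := Submodule K(p, k) N)).has_min S hne
  have hall : ∀ Q ∈ S, Q ≤ P := by
    intro Q hQ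
    by_contra h
    exact hmax (P ⊔ Q) ⟨stable_sup hP.1 hQ.1, hP.2.sup hτ hQ.2⟩ (left_lt_sup.2 h)
  have heq : Isoc.slopePart F μ = P := by
    refine le_antisymm (sSup_le ?_) (le_sSup ⟨hP.1, (restrict_isIsoclinic_iff hτ F hP.1 μ).2 hP.2⟩)
    rintro Q ⟨hQ, hQi⟩
    exact hall Q ⟨hQ, (restrict_isIsoclinic_iff hτ F hQ μ).1 hQi⟩
  rw [heq]
  exact ⟨hP.1, hP.2, fun Q h1 h2 => hall Q ⟨h1, h2⟩⟩

theorem disjoint_finset_slopePart [PerfectRing k p] [Module.Finite K(p, k) N] (hτ : Tw τ) {F : N →ₛₗ[τ] N}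
    (hF : Function.Injective F) (t : Finset ℚ) :
    ∀ (μ : ℚ), μ ∉ t → ∀ (Q : Submodule K(p, k) N), (∀ x ∈ Q, F x ∈ Q) → IsoOn F μ Q →
      Q ⊓ t.sup (Isoc.slopePart F) = ⊥ := by
  classical
  induction t using Finset.induction_on with
  | empty => intros; simp
  | insert ν t hν ih =>
    intro μ hμ Q hQ hQi
    rw [Finset.mem_insert, not_or] at hμ
    rw [Finset.sup_insert]
    set Nν := Isoc.slopePart F ν
    set S' := t.sup (Isoc.slopePart F)
    obtain ⟨hνs, hνi, -⟩ := slopePart_spec hτ F ν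
    have hS' : ∀ x ∈ S', F x ∈ S' :=
      Finset.sup_induction (p := fun P : Submodule K(p, k) N => ∀ x ∈ P, F x ∈ P) (fun x hx => by simp_all)
        (fun _ ha _ hb => stable_sup ha hb) (fun i _ => (slopePart_spec hτ F i).1)
    have hdisj : Disjoint Nν S' := disjoint_iff.2 (ih ν hν Nν hνs hνi)
    set Q' := Q ⊓ (Nν ⊔ S')
    have hQ's : ∀ x ∈ Q', F x ∈ Q' := fun x hx => ⟨hQ x hx.1, stable_sup hνs hS' x hx.2⟩
    have hQ'i : IsoOn F μ Q' := hQi.inter hτ hF inf_le_left hQ's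
    obtain ⟨R, hR⟩ := Submodule.exists_isCompl (Nν ⊔ S')
    have hcompl : IsCompl Nν (S' ⊔ R) := ⟨hdisj.disjoint_sup_right_of_disjoint_sup_left hR.disjoint, codisjoint_assoc.mp hR.codisjoint⟩
    let π : N →ₗ[K(p, k)] N := Nν.subtype ∘ₗ Submodule.projectionOnto Nν (S' ⊔ R) hcompl
    have hπ : ∀ a ∈ Nν, ∀ b ∈ S', π (a + b) = a := by
      intro a ha b hb
      simp only [π, LinearMap.comp_apply, map_add, Submodule.coe_subtype]
      rw [Submodule.projectionOnto_apply_of_mem_right hcompl (Submodule.mem_sup_left hb), Submodule.coe_zero, add_zero,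
        show a = ((⟨a, ha⟩ : Nν) : N) from rfl, Submodule.projectionOnto_apply_left]
    have hcomm : ∀ x ∈ Q', π (F x) = F (π x) := by
      intro x hx
      obtain ⟨a, ha, b, hb, rfl⟩ := Submodule.mem_sup.1 hx.2
      rw [map_add, hπ _ (hνs a ha) _ (hS' b hb), hπ a ha b hb]
    have him : Q'.map π ≤ Nν := by
      rintro _ ⟨x, -, rfl⟩
      exact (Submodule.projectionOnto Nν (S' ⊔ R) hcompl x).2
    have hims : ∀ x ∈ Q'.map π, F x ∈ Q'.map π := by
      rintro _ ⟨x, hx, rfl⟩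
      exact ⟨F x, hQ's x hx, hcomm x hx⟩
    have hzero : Q'.map π = ⊥ :=
      isoOn_eq_bot hτ hF hims hμ.1 (hQ'i.map hτ π hQ's hcomm) (hνi.inter hτ hF him hims)
    have hle : Q' ≤ Q ⊓ S' := by
      intro x hx
      refine ⟨hx.1, ?_⟩
      obtain ⟨a, ha, b, hb, rfl⟩ := Submodule.mem_sup.1 hx.2
      have : π (a + b) ∈ Q'.map π := ⟨_, hx, rfl⟩
      rw [hzero, Submodule.mem_bot, hπ a ha b hb] at this
      rwa [this, zero_add]
    exact eq_bot_iff.2 (hle.trans (ih μ hμ.2 Q hQ hQi).le)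

theorem iSupIndep_slopePart [PerfectRing k p] [Module.Finite K(p, k) N] (hτ : Tw τ) {F : N →ₛₗ[τ] N}
    (hF : Function.Injective F) : iSupIndep (Isoc.slopePart F) := by
  refine iSupIndep_iff_supIndep.2 fun t => ?_
  classical
  rw [Finset.supIndep_iff_disjoint_erase]
  intro i hi
  obtain ⟨h1, h2, -⟩ := slopePart_spec hτ F i
  exact disjoint_iff.2 (disjoint_finset_slopePart hτ hF (t.erase i) i (Finset.notMem_erase i t) _ h1 h2)

end Groth.Misc12.Isoc
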